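import Cfsg.Agent.OddHalf.D7.Cases
import Cfsg.Agent.OddHalf.Front.FE
import Cfsg.Agent.KFacts.SLRow.Row
import Cfsg.Agent.OddHalf.D7Out.MainSL
import Cfsg.Agent.Schreier.ClassAll
import Cfsg.Agent.Schreier.ChevIso
import Cfsg.Agent.OddHalf.SL.Base0
import Cfsg.Agent.OddHalf.D7Ex.KTwo
import Cfsg.Agent.OddHalf.SL.OfAut
import Cfsg.Agent.OddHalf.D7Out.FrontSL
import Cfsg.Agent.OddHalf.D7Ex.KData
import Cfsg.Agent.OddHalf.D7Ex.OfFront
import Cfsg.Agent.KFacts.RgdSys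

-- merged: Cfsg.Agent.OddHalf.D7.StartSL
section

/-!
# The simply laced rows of node D7: the starting position (helper158)

* `center_eq_bot` : a group with datum and coordinates has trivial centre;
* `sch_L`, `sch_OPlus`, `sch_E6`, `sch_E7`, `sch_E8` : the Schreier property of the families;
* `Pos` : everything that is known at the start: `Start K t v`, the datum `D` of `⊤ : Subgroup ↥K`, the coordinates;
* `false_of` : `Ctx G`, `Std G K`, `Cyc K`, `IsSLC q M K`, `Sch K` and `Pos → False` for all data.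
-/

set_option autoImplicit false
set_option linter.unusedSectionVars false

namespace Cfsg.Agent.OddHalf.D7.StartSL

open Cfsg
open CoxeterSystem Cfsg.Agent.ChevalleyStructure.CoxeterGeom Cfsg.Agent.Tits.Roots Cfsg.Agent.Tits.Core
  Cfsg.Agent.Nodes.Reps Cfsg.Agent.Nodes.BNOf Cfsg.Agent.Nodes.RGDLib Cfsg.Agent.KFacts Cfsg.Agent.KFacts.SLRow.Def
  Cfsg.Agent.KFacts.ChevTwo Cfsg.Agent.KFacts.SLRow.Diag Cfsg.Agent.KFacts.SLRow.Row Cfsg.Agent.OddHalf.Iface
  Cfsg.Agent.OddHalf.D7.Cases Cfsg.Agent.OddHalf.Front.FE Cfsg.Agent.Schreier.Basic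

universe u

/-! ### The centre -/

section

variable {I W Y F : Type*} [Fintype I] [DecidableEq I] [Group W] [Finite W] [Group Y] [Field F]
  {M : CoxeterMatrix I} {cs : CoxeterSystem M W} {A : I → I → ℤ} {h : IsCartan M A} {q : ℕ} {T : Subgroup Y}
  {n : I → Y} {X : (I → ℤ) → Subgroup Y} {e : (I → ℤ) → F → Y}

theorem center_eq_bot (D : Datum (⊤ : Subgroup Y) q cs h T n X) (S : Sys D.rgd e) : Subgroup.center Y = ⊥ := by
  rw [eq_bot_iff]
  intro z hz
  have hzc : ∀ y, y * z = z * y := Subgroup.mem_center_iff.1 hz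
  have h1 : z ∈ T := RgdSys.mem_T_of_norm S D.gen fun r _ => ⟨1, one_ne_zero, fun a => by
    rw [← hzc, mul_inv_cancel_right, one_mul]⟩
  exact Subgroup.mem_bot.2 (D.cent z h1 fun _ _ v _ => (hzc v).symm)

end

theorem center_eq_bot_of_isSLC {q l : ℕ} {M : CoxeterMatrix (Fin l)} {K' : Type u} [Group K'] (hK : IsSLC q M K') :
    Subgroup.center K' = ⊥ := by
  obtain ⟨A, h, T, n, X, F, _, _, _, e, hW, -, -, D, S⟩ := hK
  exact center_eq_bot D S

/-! ### The Schreier property -/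

theorem sch_L {K' : Type u} [Group K'] (hK : FamL K') : Sch K' := by
  obtain ⟨F, i1, i2, a, m, ha, hF, hm, h4, e⟩ := hK
  exact Cfsg.Agent.Schreier.ClassAll.sch_psl ⟨F, i1, i2, m, by omega, fun h => by omega, e⟩

theorem sch_OPlus {K' : Type u} [Group K'] (hK : FamOPlus' K') : Sch K' := by
  obtain ⟨F, i1, i2, a, m, ha, hF, hm, h4, e⟩ := hK
  exact Cfsg.Agent.Schreier.ClassAll.sch_pomegaPlus ⟨F, i1, i2, m, hm, e⟩

theorem sch_E6 {K' : Type u} [Group K'] [Finite K'] [IsSimpleGroup K'] (hna : ¬ IsMulCommutative K')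
    (hK : FamE6 K') : Sch K' := by
  obtain ⟨F, i1, i2, a, ha, hF, e⟩ := hK
  exact Cfsg.Agent.Schreier.ChevIso.e6 K' hna ⟨F, i1, i2, e⟩

theorem sch_E7 {K' : Type u} [Group K'] [Finite K'] [IsSimpleGroup K'] (hna : ¬ IsMulCommutative K')
    (hK : FamE7 K') : Sch K' := by
  obtain ⟨F, i1, i2, a, ha, hF, e⟩ := hK
  exact Cfsg.Agent.Schreier.ChevIso.e7 K' hna ⟨F, i1, i2, e⟩

theorem sch_E8 {K' : Type u} [Group K'] [Finite K'] [IsSimpleGroup K'] (hna : ¬ IsMulCommutative K')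
    (hK : FamE8 K') : Sch K' := by
  obtain ⟨F, i1, i2, a, ha, hF, e⟩ := hK
  exact Cfsg.Agent.Schreier.ChevIso.e8 K' hna ⟨F, i1, i2, e⟩

/-! ### The starting position -/

/-- The starting position is impossible for the groups with datum of diagram `M` over fields with `q` elements. -/
def Impossible (q : ℕ) {l : ℕ} (M : CoxeterMatrix (Fin l)) : Prop :=
  ∀ (G : Type u) [Group G] (_ : Finite G) (K : Subgroup G) (A : Fin l → Fin l → ℤ) (h : IsCartan M A)
    (T : Subgroup ↥K) (n : Fin l → ↥K) (X : (Fin l → ℤ) → Subgroup ↥K) (F : Type) (_ : Field F) (_ : Finite F)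
    (_ : CharP F 2) (e : (Fin l → ℤ) → F → ↥K) (_ : Finite M.Group) (_ : Nat.card F = q) (_ : DTwo M)
    (D : Datum (⊤ : Subgroup ↥K) q M.toCoxeterSystem h T n X) (_ : Sys D.rgd e) (_ : commutator G = ⊤)
    (_ : Sch ↥K) (_ : ∀ s ∈ T, ∀ t ∈ T, s * t = t * s) (t v : G) (_ : Start K t v), False

theorem false_of {G : Type u} [Group G] (C : Ctx G) {K : Subgroup G} (S : Std G K) (hcyc : Cyc K) {q l : ℕ}
    {M : CoxeterMatrix (Fin l)} (hK : IsSLC q M ↥K) (hs : Sch ↥K) (hI : Impossible.{u} q M) : False := by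
  have hfin := C.fin
  have hcen := center_eq_bot_of_isSLC hK
  obtain ⟨t, v, hst⟩ := exists_start C S hcyc hcen
  obtain ⟨A, h, T, n, X, F, i1, i2, i3, e, hW, hq, hM, D, Sy⟩ := hK
  exact hI G hfin K A h T n X F i1 i2 i3 e hW hq hM D Sy (commutator_eq_top C) hs
    (fun s hs t ht => SLRow.Tab.comm_T Sy D.cent hs ht) t v hst

theorem simple_of {G : Type u} [Group G] {K : Subgroup G} (S : Std G K) (hcen : Subgroup.center ↥K = ⊥) :
    IsSimpleGroup ↥K ∧ ¬ IsMulCommutative ↥K := by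
  have e : ↥K ⧸ Subgroup.center ↥K ≃* ↥K :=
    (QuotientGroup.quotientMulEquivOfEq hcen).trans QuotientGroup.quotientBot
  have h1 := S.simple
  have h2 := S.quo_na
  refine ⟨e.symm.isSimpleGroup, fun h3 => h2 ⟨⟨fun a b => ?_⟩⟩⟩
  apply e.injective
  rw [map_mul, map_mul]
  exact h3.1.1 _ _

/-! ### The nodes -/

open Cfsg.Agent.LieRecognition.BNCox (cA) in
theorem node_L (h : ∀ a n : ℕ, 1 ≤ a → 3 ≤ n → (n = 3 → 2 ≤ a) → Impossible.{u} (2 ^ a) (cA n)) :
    Node.{u} @FamL.{u} := by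
  intro G _ C K S hcyc hK
  obtain ⟨q, n, a, rfl, ha, hn, h3, hK'⟩ := row_L hK
  exact false_of C S hcyc hK' (sch_L hK) (h a n ha hn h3)

theorem node_OPlus (h : ∀ a n : ℕ, 1 ≤ a → 2 ≤ n → (n = 2 → 2 ≤ a) →
    Impossible.{u} (2 ^ a) (Cfsg.Agent.Nodes.TypeD.M n)) : Node.{u} @FamOPlus'.{u} := by
  intro G _ C K S hcyc hK
  obtain ⟨q, n, a, rfl, ha, hn, h3, hK'⟩ := row_OPlus hK
  exact false_of C S hcyc hK' (sch_OPlus hK) (h a n ha hn h3)

theorem node_E6 (h : ∀ a : ℕ, 1 ≤ a → Impossible.{u} (2 ^ a) CoxeterMatrix.E₆) : Node.{u} @FamE6.{u} := by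
  intro G _ C K S hcyc hK
  obtain ⟨q, a, rfl, ha, hK'⟩ := row_E6 hK
  have := C.fin
  obtain ⟨h1, h2⟩ := simple_of S (center_eq_bot_of_isSLC hK')
  exact false_of C S hcyc hK' (sch_E6 h2 hK) (h a ha)

theorem node_E7 (h : ∀ a : ℕ, 1 ≤ a → Impossible.{u} (2 ^ a) CoxeterMatrix.E₇) : Node.{u} @FamE7.{u} := by
  intro G _ C K S hcyc hK
  obtain ⟨q, a, rfl, ha, hK'⟩ := row_E7 hK
  have := C.fin
  obtain ⟨h1, h2⟩ := simple_of S (center_eq_bot_of_isSLC hK')
  exact false_of C S hcyc hK' (sch_E7 h2 hK) (h a ha)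

theorem node_E8 (h : ∀ a : ℕ, 1 ≤ a → Impossible.{u} (2 ^ a) CoxeterMatrix.E₈) : Node.{u} @FamE8.{u} := by
  intro G _ C K S hcyc hK
  obtain ⟨q, a, rfl, ha, hK'⟩ := row_E8 hK
  have := C.fin
  obtain ⟨h1, h2⟩ := simple_of S (center_eq_bot_of_isSLC hK')
  exact false_of C S hcyc hK' (sch_E8 h2 hK) (h a ha)

end Cfsg.Agent.OddHalf.D7.StartSL

end

-- merged: Cfsg.Agent.OddHalf.D7Out.SqTwo
section

/-!
# `q = 2`: the doubled root group can be chosen elementary abelian (helper875)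

`exists_sq` : `Base0` at `r` for `q = 2` gives `Base0` at `r` with `w * w = 1`: in the dihedral group `⟨t⟩ V` the other
four-group is taken.
-/

set_option autoImplicit false
set_option linter.unusedSectionVars false

namespace Cfsg.Agent.OddHalf.D7Out.SqTwo

open CoxeterSystem Cfsg.Agent.ChevalleyStructure.CoxeterGeom Cfsg.Agent.Tits.Roots Cfsg.Agent.Tits.Core
  Cfsg.Agent.Tits.RootComb Cfsg.Agent.Nodes.Reps Cfsg.Agent.Nodes.BNOf Cfsg.Agent.Nodes.Coroot
  Cfsg.Agent.OddHalf.SL.Index Cfsg.Agent.OddHalf.SL.OfRGD Cfsg.Agent.KFacts.SLRow.Def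
  Cfsg.Agent.OddHalf.D7Ex Cfsg.Agent.OddHalf.SL.PreOf Cfsg.Agent.OddHalf.SL

variable {I W G : Type*} [Fintype I] [DecidableEq I] [Group W] [Group G] {M : CoxeterMatrix I}
  {cs : CoxeterSystem M W} {A : I → I → ℤ} {h : IsCartan M A} {K : Subgroup G} {t : G} {T : Subgroup G} {n : I → G}
  {X : (I → ℤ) → Subgroup G}

theorem exists_sq [Finite G] [Finite W] (D : Datum K 2 cs h T n X) (tt : t * t = 1)
    (tX : ∀ a, IsRoot cs h a → ∀ x ∈ X a, t * x = x * t) {r : I → ℤ} {V : Subgroup G}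
    (B : Base0.Base0 D.rgd t r V) : ∃ V', Base0.Base0 D.rgd t r V' ∧ ∀ w ∈ V', w * w = 1 := by
  by_cases hall : ∀ w ∈ V, w * w = 1
  · exact ⟨V, B, hall⟩
  push Not at hall
  obtain ⟨w₀, hw₀, hne⟩ := hall
  have hR := roots cs h D.h4 D.h6
  have hr := B.root
  have Xsq : ∀ x ∈ X r, x * x = 1 := (KData.rg D).X2 r hr
  obtain ⟨z, hz, hz1, hXz⟩ := KTwo.exists_z D hr
  have hsq : w₀ * w₀ = z := (hXz _ (B.sq _ hw₀)).resolve_left hne
  have hnc : t * w₀ ≠ w₀ * t := fun h1 => hne (Xsq _ (B.cent _ hw₀ h1))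
  have cX : ∀ w ∈ V, ∀ x ∈ X r, w * x = x * w := fun w hw x hx =>
    B.WX r hr (by rw [hR.two r hr]; norm_num) w hw x hx
  have tz : ∀ x ∈ X r, t * x = x * t := tX r hr
  have zz := Xsq z hz
  -- `t w t = w z` for `w` not commuting with `t`
  have key : ∀ w ∈ V, t * w ≠ w * t → t * w * t = w * z := by
    intro w hw h1
    have h2 := (hXz _ (B.brk w hw)).resolve_left (by
      intro h3
      apply h1
      have h4 : t * w * t = w := by
        rw [inv_mul_eq_one] at h3; exact h3.symm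
      calc t * w = t * w * (t * t) := by rw [tt, mul_one]
        _ = (t * w * t) * t := by group
        _ = w * t := by rw [h4])
    rw [← h2]; group
  have h0 := key w₀ hw₀ hnc
  have tw : t * w₀ = w₀ * z * t := by
    calc t * w₀ = t * w₀ * (t * t) := by rw [tt, mul_one]
      _ = (t * w₀ * t) * t := by group
      _ = w₀ * z * t := by rw [h0]
  -- `V = X r ∪ w₀ X r`
  have dec : ∀ w ∈ V, t * w ≠ w * t → ∃ x ∈ X r, w = w₀ * x := by
    intro w hw h1
    have h2 := key w hw h1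
    refine ⟨w₀⁻¹ * w, ?_, by group⟩
    apply B.cent _ (mul_mem (inv_mem hw₀) hw)
    have h3 : t * (w₀⁻¹ * w) * t = w₀⁻¹ * w := by
      have e1 : t * w₀⁻¹ * t = (t * w₀ * t)⁻¹ := by
        rw [mul_inv_rev, mul_inv_rev, inv_eq_of_mul_eq_one_left tt, mul_assoc]
      calc t * (w₀⁻¹ * w) * t = (t * w₀⁻¹ * t) * (t⁻¹ * t⁻¹) * (t * w * t) := by group
        _ = (w₀ * z)⁻¹ * (w * z) := by rw [e1, h0, h2, ← mul_inv_rev, tt, inv_one, mul_one]
        _ = z⁻¹ * w₀⁻¹ * (w * z) := by group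
        _ = z⁻¹ * (w₀⁻¹ * w * z) := by group
        _ = z⁻¹ * (z * (w₀⁻¹ * w)) := by rw [cX _ (mul_mem (inv_mem hw₀) hw) z hz]
        _ = w₀⁻¹ * w := by group
    calc t * (w₀⁻¹ * w) = t * (w₀⁻¹ * w) * (t * t) := by rw [tt, mul_one]
      _ = (t * (w₀⁻¹ * w) * t) * t := by group
      _ = w₀⁻¹ * w * t := by rw [h3]
  -- the product of two elements of the coset `t w₀ X r`
  have prod : ∀ x ∈ X r, ∀ y ∈ X r, (t * w₀ * x) * (t * w₀ * y) = x * y := by
    intro x hx y hy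
    calc (t * w₀ * x) * (t * w₀ * y) = t * w₀ * (x * t) * w₀ * y := by group
      _ = t * w₀ * (t * x) * w₀ * y := by rw [tz x hx]
      _ = (t * w₀ * t) * (x * w₀) * y := by group
      _ = (w₀ * z) * (w₀ * x) * y := by rw [h0, ← cX w₀ hw₀ x hx]
      _ = w₀ * (z * w₀) * (x * y) := by group
      _ = w₀ * (w₀ * z) * (x * y) := by rw [cX w₀ hw₀ z hz]
      _ = (w₀ * w₀) * z * (x * y) := by group
      _ = x * y := by rw [hsq, zz, one_mul]
  have comm : ∀ x ∈ X r, (t * w₀) * x = x * (t * w₀) := by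
    intro x hx
    rw [mul_assoc, cX w₀ hw₀ x hx, ← mul_assoc, tz x hx, mul_assoc]
  let V' : Subgroup G :=
    { carrier := {y | y ∈ X r ∨ ∃ x ∈ X r, y = t * w₀ * x}
      one_mem' := Or.inl (one_mem _)
      mul_mem' := by
        rintro a b (ha | ⟨x, hx, rfl⟩) (hb | ⟨y, hy, rfl⟩)
        · exact Or.inl (mul_mem ha hb)
        · right
          refine ⟨a * y, mul_mem ha hy, ?_⟩
          calc a * (t * w₀ * y) = a * (t * w₀) * y := by group
            _ = t * w₀ * (a * y) := by rw [← comm a ha]; group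
        · right
          exact ⟨x * b, mul_mem hx hb, by group⟩
        · left
          rw [prod x hx y hy]
          exact mul_mem hx hy
      inv_mem' := by
        rintro a (ha | ⟨x, hx, rfl⟩)
        · exact Or.inl (inv_mem ha)
        · right
          refine ⟨x, hx, ?_⟩
          have h1 := prod x hx x hx
          rw [Xsq x hx] at h1
          exact inv_eq_of_mul_eq_one_left h1 }
  have hmem : ∀ y, y ∈ V' ↔ (y ∈ X r ∨ ∃ x ∈ X r, y = t * w₀ * x) := fun y => Iff.rfl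
  have hV'sq : ∀ w ∈ V', w * w = 1 := by
    intro w hw
    rcases (hmem w).1 hw with hw | ⟨x, hx, rfl⟩
    · exact Xsq w hw
    · rw [prod x hx x hx, Xsq x hx]
  have brk' : ∀ x ∈ X r, (t * w₀ * x)⁻¹ * (t * (t * w₀ * x) * t) = z := by
    intro x hx
    have h1 : (t * w₀ * x)⁻¹ = t * w₀ * x :=
      inv_eq_of_mul_eq_one_left (by rw [prod x hx x hx, Xsq x hx])
    calc (t * w₀ * x)⁻¹ * (t * (t * w₀ * x) * t) = t * w₀ * x * ((t * t) * w₀ * x * t) := by rw [h1]; group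
      _ = t * w₀ * (x * w₀) * x * t := by rw [tt]; group
      _ = t * w₀ * (w₀ * x) * x * t := by rw [cX w₀ hw₀ x hx]
      _ = t * (w₀ * w₀) * (x * x) * t := by group
      _ = t * z * t := by rw [hsq, Xsq x hx, mul_one]
      _ = z * (t * t) := by rw [tz z hz]; group
      _ = z := by rw [tt, mul_one]
  refine ⟨V', ⟨hr, fun x hx => Or.inl hx, fun w hw => by rw [hV'sq w hw]; exact one_mem _, ?_, ?_, ?_, ?_, ?_, B.tN⟩,
    hV'sq⟩
  · intro w hw
    rcases (hmem w).1 hw with hw | ⟨x, hx, rfl⟩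
    · have h1 : w⁻¹ * (t * w * t) = 1 := by rw [tz w hw, mul_assoc, tt, mul_one, inv_mul_cancel]
      rw [h1]; exact one_mem _
    · rw [brk' x hx]; exact hz
  · intro w hw hc
    rcases (hmem w).1 hw with hw | ⟨x, hx, rfl⟩
    · exact hw
    · exfalso
      have h1 := brk' x hx
      rw [hc, mul_assoc (t * w₀ * x) t t, tt, mul_one, inv_mul_cancel] at h1
      exact hz1 h1.symm
  · intro x hx
    rcases hXz x hx with rfl | rfl
    · exact ⟨1, one_mem _, by rw [inv_one, one_mul, mul_one, tt]⟩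
    · exact ⟨t * w₀ * 1, Or.inr ⟨1, one_mem _, rfl⟩, brk' 1 (one_mem _)⟩
  · intro a ha h0 w hw x hx
    rcases (hmem w).1 hw with hw | ⟨y, hy, rfl⟩
    · exact B.WX a ha h0 w (B.XW hw) x hx
    · have h1 := B.WX a ha h0 _ (mul_mem hw₀ (B.XW hy)) x hx
      calc t * w₀ * y * x = t * (w₀ * y * x) := by group
        _ = t * (x * (w₀ * y)) := by rw [h1]
        _ = (t * x) * (w₀ * y) := by group
        _ = x * (t * w₀ * y) := by rw [tX a ha x hx]; group
  · intro w k hk hwr y hy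
    have hkX : ∀ x ∈ X r, k * x * k⁻¹ ∈ X r := by
      intro x hx
      have h1 := D.rgd.conj_mem hk hr hx
      rwa [hwr] at h1
    have hkt := B.tN w k hk
    have hkt' : k⁻¹ * t = t * k⁻¹ := by
      rw [inv_mul_eq_iff_eq_mul, ← mul_assoc, ← hkt, mul_inv_cancel_right]
    rcases (hmem y).1 hy with hy | ⟨x, hx, rfl⟩
    · exact Or.inl (hkX y hy)
    · have h1 := B.nrm w k hk hwr w₀ hw₀
      have h2 : t * (k * w₀ * k⁻¹) ≠ k * w₀ * k⁻¹ * t := by
        intro h3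
        apply hnc
        have h4 : t * w₀ = k⁻¹ * (t * (k * w₀ * k⁻¹)) * k := by
          calc t * w₀ = t * k⁻¹ * (k * w₀) := by group
            _ = k⁻¹ * t * (k * w₀) := by rw [hkt']
            _ = _ := by group
        rw [h4, h3]
        calc k⁻¹ * (k * w₀ * k⁻¹ * t) * k = w₀ * (k⁻¹ * t) * k := by group
          _ = w₀ * (t * k⁻¹) * k := by rw [hkt']
          _ = w₀ * t := by group
      obtain ⟨x', hx', e⟩ := dec _ h1 h2
      right
      refine ⟨x' * (k * x * k⁻¹), mul_mem hx' (hkX x hx), ?_⟩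
      calc k * (t * w₀ * x) * k⁻¹ = (k * t) * w₀ * x * k⁻¹ := by group
        _ = t * (k * w₀ * k⁻¹) * (k * x * k⁻¹) := by rw [← hkt]; group
        _ = t * w₀ * (x' * (k * x * k⁻¹)) := by rw [e]; group

end Cfsg.Agent.OddHalf.D7Out.SqTwo

end

-- merged: Cfsg.Agent.OddHalf.D7Out.GrSL
section

/-!
# D7 for simply laced `K`: growth (helper875; `OfAut` of helper194)

* `full` : `Full t K` from `CT t K`; `hasGr` : `HasGr D t` for all `q`;
* **`false_of_ex`** : `HasP`, `HasEx` give a contradiction; **`false_of_big`** : `q > 2`.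
-/

set_option autoImplicit false
set_option linter.unusedSectionVars false

namespace Cfsg.Agent.OddHalf.D7Out.GrSL

open CoxeterSystem Cfsg.Agent.ChevalleyStructure.CoxeterGeom Cfsg.Agent.Tits.Roots Cfsg.Agent.Tits.Core
  Cfsg.Agent.Nodes.Reps Cfsg.Agent.Nodes.BNOf Cfsg.Agent.Nodes.Coroot
  Cfsg.Agent.KFacts.SLRow.Def Cfsg.Agent.KFacts.ChevTwo Cfsg.Agent.OddHalf.SL.Index Cfsg.Agent.OddHalf.SL.PreOf
  Cfsg.Agent.OddHalf.D7Ex Cfsg.Agent.OddHalf.SL Cfsg.Agent.OddHalf.D7Out.MainSL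

variable {I W : Type*} [Fintype I] [DecidableEq I] [Group W] {M : CoxeterMatrix I}
  {cs : CoxeterSystem M W} {A : I → I → ℤ} {h : IsCartan M A}
  {G : Type*} [Group G] {K : Subgroup G} {T₀ : Subgroup ↥K} {n : I → ↥K} {X : (I → ℤ) → Subgroup ↥K} {q : ℕ}
  {F : Type*} [Field F] {e : (I → ℤ) → F → ↥K} {t v : G}

theorem full (C : KFull.CT t K) : OfAut.Full t K := ⟨C.tt, C.tK, C.Kt, C.nrm, C.cK⟩

theorem hasGr [Finite G] [Finite W] (D : Datum (⊤ : Subgroup ↥K) q cs h T₀ n X) (hq : 2 < q ∨ q = 2) :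
    HasGr D t := by
  intro ρ V C B
  rcases hq with hq | rfl
  · obtain ⟨V', -, -, hV'⟩ := OfAut.dbl_of_base D (full C) (OutBase.dm D) hq B
    exact ⟨V', hV'⟩
  · obtain ⟨V₁, B₁, hsq⟩ := SqTwo.exists_sq (OutBase.dm D) C.tt
      (fun a ha x hx => C.Kt x ((OutBase.dm D).XK ha hx)) B
    obtain ⟨V', -, -, hV'⟩ := OfAut.dbl_of_base_two D (full C) (OutBase.dm D) rfl B₁ hsq
    exact ⟨V', hV'⟩

/-- **`HasP` and `HasEx` give a contradiction.** -/
theorem false_of_ex [Finite G] [Finite W] [Finite F] [CharP F 2] (hG : commutator G = ⊤)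
    (S : Front.FE.Start K t v) (hs : Schreier.Basic.Sch ↥K) (D : Datum (⊤ : Subgroup ↥K) q cs h T₀ n X)
    (Sy : Sys D.rgd e) (hM : Outer.DiagTwo M) (hq : 2 < q ∨ q = 2) (hP : FrontSL.HasP cs h X)
    (hEx : HasEx D e t v) : False :=
  false_of hG S hs D Sy hM hP hEx (hasGr D hq)

/-- **`q > 2`.** -/
theorem false_of_big [Finite G] [Finite W] [Finite F] [CharP F 2] (hG : commutator G = ⊤)
    (S : Front.FE.Start K t v) (hs : Schreier.Basic.Sch ↥K) (D : Datum (⊤ : Subgroup ↥K) q cs h T₀ n X)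
    (Sy : Sys D.rgd e) (hM : Outer.DiagTwo M) (hq : 2 < q)
    (hT : 4 ≤ Fintype.card I ∨ ∀ ρ, IsRoot cs h ρ → (∀ i, 0 ≤ cpr cs h (sr i) ρ) →
      ∃ β g k, Tor (Bf A) {x | IsRoot cs h x} (fun x => (X x).map K.subtype) ρ (T₀.map K.subtype) β g k) : False :=
  false_of_ex hG S hs D Sy hM (Or.inl hq) (HasPOf.hasP_big D hq) (hasEx_big D Sy hq hT)

/-- **`q = 2`**, from `HasP` and `HasEx`. -/
theorem false_of_two [Finite G] [Finite W] [Finite F] [CharP F 2] (hG : commutator G = ⊤)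
    (S : Front.FE.Start K t v) (hs : Schreier.Basic.Sch ↥K) (D : Datum (⊤ : Subgroup ↥K) 2 cs h T₀ n X)
    (Sy : Sys D.rgd e) (hM : Outer.DiagTwo M) (hP : FrontSL.HasP cs h X) (hEx : HasEx D e t v) : False :=
  false_of_ex hG S hs D Sy hM (Or.inr rfl) hP hEx

end Cfsg.Agent.OddHalf.D7Out.GrSL

end

-- merged: Cfsg.Agent.OddHalf.D7Out.HasPTwo
section

/-!
# Perfect subgroups of `C_K(X r)` containing `X r`, all `q` (helper158)

* `A4 B Φ f` : the roots `f i j = e_i - e_j` (`i ≠ j` in `Fin 5`) of a subsystem of type `A₄`; `A4.of` : from its basis;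
* `Path4 M` : the diagram contains a path with four nodes (`path4_A`, `path4_D`, `path4_E6`, `path4_E7`, `path4_E8`);
* `trans` : the Weyl group is transitive on the roots;
* `hasP_path4` : `FrontSL.HasP` for every `q` if the diagram contains a path with four nodes.
-/

set_option autoImplicit false
set_option linter.unusedSectionVars false

namespace Cfsg.Agent.OddHalf.D7Out.HasPTwo

open CoxeterSystem Cfsg.Agent.ChevalleyStructure.CoxeterGeom Cfsg.Agent.Tits.Roots Cfsg.Agent.Tits.Core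
  Cfsg.Agent.Tits.RootComb Cfsg.Agent.Nodes.Reps Cfsg.Agent.Nodes.BNOf Cfsg.Agent.Nodes.Coroot
  Cfsg.Agent.OddHalf.SL.Index Cfsg.Agent.OddHalf.SL.OfRGD Cfsg.Agent.KFacts.SLRow.Def
  Cfsg.Agent.OddHalf.D7Ex Cfsg.Agent.OddHalf.D7Ex.KData Cfsg.Agent.OddHalf.SL.PreOf Cfsg.Agent.OddHalf.SL.Defs
open scoped commutatorElement

/-! ### Subsystems of type `A₄` -/

section Comb

variable {L : Type*} [AddCommGroup L] {B : L → L → ℤ} {Φ : Set L}

/-- The roots of a subsystem of type `A₄`. -/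
structure A4 (B : L → L → ℤ) (Φ : Set L) (f : Fin 5 → Fin 5 → L) : Prop where
  mem : ∀ i j, i ≠ j → f i j ∈ Φ
  add : ∀ i j k, f i j + f j k = f i k
  neg_one : ∀ i j k, i ≠ j → j ≠ k → i ≠ k → B (f i j) (f j k) = -1
  nonneg : ∀ i j, i ≠ j → i ≠ 4 → j ≠ 0 → 0 ≤ B (f i j) (f 0 4)

/-- the Gram matrix of `e_0 - e_i` -/
def gr (i j : Fin 5) : ℤ := if i = 0 ∨ j = 0 then 0 else if i = j then 2 else 1

theorem A4.of_gram (hR : Roots B Φ) {p : Fin 5 → L} (hp : ∀ i j, B (p i) (p j) = gr i j)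
    (h1 : ∀ i : Fin 4, p i.succ - p i.castSucc ∈ Φ) : A4 B Φ (fun i j => p j - p i) := by
  have hB : ∀ i j k l, B (p j - p i) (p l - p k) = gr j l - gr j k - gr i l + gr i k := by
    intro i j k l
    rw [hR.sub_left, hR.sub_right, hR.sub_right, hp, hp, hp, hp]; ring
  have hadd : ∀ i j k, (p j - p i) + (p k - p j) = p k - p i := fun i j k => by abel
  have hneg : ∀ i j k, i ≠ j → j ≠ k → i ≠ k → B (p j - p i) (p k - p j) = -1 := by
    intro i j k h1 h2 h3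
    rw [hB]
    revert i j k
    decide
  have hlt : ∀ d : ℕ, ∀ i j : Fin 5, (i : ℕ) + (d + 1) = j → p j - p i ∈ Φ := by
    intro d
    induction d with
    | zero =>
      intro i j hij
      have h2 := h1 ⟨i, by have := j.2; omega⟩
      have e1 : (⟨(i : ℕ), by have := j.2; omega⟩ : Fin 4).succ = j := Fin.ext (by show (i : ℕ) + 1 = j; omega)
      have e2 : (⟨(i : ℕ), by have := j.2; omega⟩ : Fin 4).castSucc = i := Fin.ext rfl
      rwa [e1, e2] at h2
    | succ d ih =>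
      intro i j hij
      have hj := j.2
      obtain ⟨k, hk⟩ : ∃ k : Fin 5, (k : ℕ) = i + (d + 1) := ⟨⟨i + (d + 1), by omega⟩, rfl⟩
      have h2 := ih i k hk.symm
      have h3 : p j - p k ∈ Φ := by
        have h4 := h1 ⟨k, by omega⟩
        have e1 : (⟨(k : ℕ), by omega⟩ : Fin 4).succ = j := Fin.ext (by show (k : ℕ) + 1 = j; omega)
        have e2 : (⟨(k : ℕ), by omega⟩ : Fin 4).castSucc = k := Fin.ext rfl
        rwa [e1, e2] at h4
      rw [← hadd i k j]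
      refine hR.add _ h2 _ h3 (hneg i k j ?_ ?_ ?_)
      · rintro rfl; omega
      · rintro rfl; omega
      · rintro rfl; omega
  refine ⟨fun i j hij => ?_, hadd, hneg, fun i j h2 h3 h4 => ?_⟩
  · rcases Nat.lt_or_ge (i : ℕ) j with h2 | h2
    · exact hlt (j - i - 1) i j (by omega)
    · have h3 : (i : ℕ) ≠ j := fun e => hij (Fin.ext e)
      have h4 := hR.neg_mem _ (hlt (i - j - 1) j i (by omega))
      rwa [neg_sub] at h4
  · rw [hB]
    revert i j
    decide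

theorem A4.of (hR : Roots B Φ) {a b c d : L} (ha : a ∈ Φ) (hb : b ∈ Φ) (hc : c ∈ Φ) (hd : d ∈ Φ)
    (hab : B a b = -1) (hbc : B b c = -1) (hcd : B c d = -1) (hac : B a c = 0) (had : B a d = 0)
    (hbd : B b d = 0) : ∃ f, A4 B Φ f := by
  have hba := hab; have hcb := hbc; have hdc := hcd; have hca := hac; have hda := had; have hdb := hbd
  rw [hR.symm] at hba hcb hdc hca hda hdb
  have haa := hR.two a ha
  have hbb := hR.two b hb
  have hcc := hR.two c hc
  have hdd := hR.two d hd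
  have h0 : ∀ x, B x 0 = 0 := fun x => by rw [hR.symm, hR.zero_left]
  refine ⟨_, A4.of_gram (p := ![0, a, a + b, a + b + c, a + b + c + d]) hR ?_ ?_⟩
  · intro i j
    fin_cases i <;> fin_cases j <;>
      simp [gr, hR.add_left, hR.add_right, hR.zero_left, h0, hab, hbc, hcd, hac, had, hbd, hba, hcb, hdc, hca, hda,
        hdb, haa, hbb, hcc, hdd]
  · intro i
    fin_cases i
    · simpa using ha
    · simpa using hb
    · simpa using hc
    · simpa using hd

end Comb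

/-! ### The Weyl group -/

section Weyl

variable {I W : Type*} [Fintype I] [DecidableEq I] [Group W] {M : CoxeterMatrix I}
  {cs : CoxeterSystem M W} {A : I → I → ℤ} {h : IsCartan M A}

theorem A4.rep (h4 : ∀ i j, M i j ≠ 4) (h6 : ∀ i j, M i j ≠ 6) {f : Fin 5 → Fin 5 → I → ℤ}
    (H : A4 (Bf A) {x | IsRoot cs h x} f) (w : W) :
    A4 (Bf A) {x | IsRoot cs h x} (fun i j => rep cs h w (f i j)) where
  mem i j hij := (H.mem i j hij).act w
  add i j k := by rw [← map_add, H.add]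
  neg_one i j k h1 h2 h3 := by rw [bf_rep h4 h6]; exact H.neg_one i j k h1 h2 h3
  nonneg i j h1 h2 h3 := by rw [bf_rep h4 h6]; exact H.nonneg i j h1 h2 h3

/-- The Weyl group of a connected simply laced diagram is transitive on the roots. -/
theorem trans [Finite W] (h4 : ∀ i j, M i j ≠ 4) (h6 : ∀ i j, M i j ≠ 6) (hc : Conn M) (h2 : 2 ≤ Fintype.card I)
    {r s : I → ℤ} (hr : IsRoot cs h r) (hs : IsRoot cs h s) : ∃ w, rep cs h w r = s := by
  refine ind h4 h6 hc h2 (P := fun s => ∃ w, rep cs h w r = s) hr ⟨1, by rw [map_one, Module.End.one_apply]⟩ ?_ hs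
  rintro _ s _ hs hrs ⟨w, rfl⟩
  have hR := roots cs h h4 h6
  have hr' : IsRoot cs h (rep cs h w r) := hr.act w
  obtain ⟨s', hs'⟩ : ∃ s' : W, ∀ y, rep cs h s' y = y - cpr cs h y (rep cs h w r - s) • (rep cs h w r - s) := by
    obtain ⟨v, i, e⟩ := hR.sub_mem hr' hs hrs
    refine ⟨v * cs.simple i * v⁻¹, fun y => ?_⟩
    rw [rep_mul_apply, rep_mul_apply, rep_simple_eq, map_sub, rep_apply_inv, map_smul,
      ← cpr_rep_sr (cs := cs) (h := h), ← e]
  refine ⟨s' * w, ?_⟩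
  rw [rep_mul_apply, hs', ← bf_eq_cpr h4 h6 _ (hR.sub_mem hr' hs hrs), hR.sub_right, hR.two _ hr', hrs]
  norm_num

/-- The diagram contains a path with four nodes. -/
def Path4 (M : CoxeterMatrix I) : Prop :=
  ∃ i j k l : I, i ≠ j ∧ j ≠ k ∧ k ≠ l ∧ i ≠ k ∧ i ≠ l ∧ j ≠ l ∧ M i j ≠ 2 ∧ M j k ≠ 2 ∧ M k l ≠ 2 ∧ M i k = 2 ∧
    M i l = 2 ∧ M j l = 2

theorem bf_sr_sr (i j : I) : Bf A (sr i) (sr j) = A j i := by rw [bf_sr, Cfsg.Agent.Nodes.ZFam.pairing_sr']

theorem exists_A4 [Finite W] (h4 : ∀ i j, M i j ≠ 4) (h6 : ∀ i j, M i j ≠ 6) (hc : Conn M)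
    (h2 : 2 ≤ Fintype.card I) (hP : Path4 M) {r : I → ℤ} (hr : IsRoot cs h r) :
    ∃ f, A4 (Bf A) {x | IsRoot cs h x} f ∧ f 0 4 = r := by
  have hR := roots cs h h4 h6
  obtain ⟨i, j, k, l, h1, h3, h5, h7, h8, h9, a1, a2, a3, b1, b2, b3⟩ := hP
  have hA : ∀ i j, i ≠ j → M i j ≠ 2 → Bf A (sr i) (sr j) = -1 := by
    intro i j hij hm
    rw [bf_sr_sr]
    rcases h.rel i j hij with h0 | h0 | h0 | h0
    · exact absurd h0.1 hm
    · exact h0.2.2
    · exact absurd h0.1 (h4 _ _)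
    · exact absurd h0.1 (h6 _ _)
  have hO : ∀ i j, i ≠ j → M i j = 2 → Bf A (sr i) (sr j) = 0 := by
    intro i j hij hm
    rw [bf_sr_sr]
    rcases h.rel i j hij with h0 | h0 | h0 | h0
    · exact h0.2.2
    · rw [h0.1] at hm; norm_num at hm
    · rw [h0.1] at hm; norm_num at hm
    · rw [h0.1] at hm; norm_num at hm
  obtain ⟨f, hf⟩ := A4.of hR (a := sr i) (b := sr j) (c := sr k) (d := sr l) (isRoot_sr cs h i) (isRoot_sr cs h j)
    (isRoot_sr cs h k) (isRoot_sr cs h l) (hA i j h1 a1) (hA j k h3 a2) (hA k l h5 a3) (hO i k h7 b1)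
    (hO i l h8 b2) (hO j l h9 b3)
  obtain ⟨w, hw⟩ := trans h4 h6 hc h2 (hf.mem 0 4 (by decide)) hr
  exact ⟨_, hf.rep h4 h6 w, hw⟩

end Weyl

/-! ### The perfect subgroup -/

section Perf

variable {I W : Type*} [Fintype I] [DecidableEq I] [Group W] {M : CoxeterMatrix I}
  {cs : CoxeterSystem M W} {A : I → I → ℤ} {h : IsCartan M A}
  {G : Type*} [Group G] {K : Subgroup G} {T : Subgroup G} {n : I → G} {X : (I → ℤ) → Subgroup G} {q : ℕ}

theorem exists_perf [Finite G] [Finite W] (D : Datum K q cs h T n X) (hP : Path4 M) {r : I → ℤ}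
    (hr : IsRoot cs h r) : ∃ L : Subgroup G, ⁅L, L⁆ = L ∧ X r ≤ L ∧ L ≤ PR (Bf A) {x | IsRoot cs h x} X r := by
  obtain ⟨f, hf, hfr⟩ := exists_A4 D.h4 D.h6 D.irr (by have := D.three; omega) hP hr
  have hX : ∀ i j, i ≠ j → i ≠ 4 → j ≠ 0 → X (f i j) ≤ RGD.Sup X {x | ∃ i j, i ≠ j ∧ i ≠ 4 ∧ j ≠ 0 ∧ x = f i j} :=
    fun i j h1 h2 h3 => RGD.le_Sup ⟨i, j, h1, h2, h3, rfl⟩
  refine ⟨RGD.Sup X {x | ∃ i j, i ≠ j ∧ i ≠ 4 ∧ j ≠ 0 ∧ x = f i j}, le_antisymm ?_ ?_, ?_, ?_⟩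
  · rw [Subgroup.commutator_le]
    intro a ha b hb
    rw [commutatorElement_def]
    exact mul_mem (mul_mem (mul_mem ha hb) (inv_mem ha)) (inv_mem hb)
  · refine iSup_le ?_
    rintro ⟨_, i, j, h1, h2, h3, rfl⟩ y hy
    obtain ⟨k, k0, k4, ki, kj⟩ : ∃ k : Fin 5, k ≠ 0 ∧ k ≠ 4 ∧ k ≠ i ∧ k ≠ j := by
      clear hy y
      revert i j
      decide
    obtain ⟨p, hp, hp1⟩ := KData.exists_ne D.rgd (hf.mem i k ki.symm)
    obtain ⟨v, hv, e⟩ := (KData.rg D).sur (f i k) (hf.mem i k ki.symm) (f k j) (hf.mem k j kj)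
      (hf.neg_one i k j ki.symm kj h1) p hp hp1 y (by rw [hf.add]; exact hy)
    rw [← e, ← commutatorElement_def]
    exact Subgroup.commutator_mem_commutator (hX i k ki.symm h2 k0 hp) (hX k j kj k4 h3 hv)
  · rw [← hfr]
    exact hX 0 4 (by decide) (by decide) (by decide)
  · refine iSup_le ?_
    rintro ⟨_, i, j, h1, h2, h3, rfl⟩
    exact le_PR X (hf.mem i j h1) (by rw [← hfr]; exact hf.nonneg i j h1 h2 h3)

end Perf

section HasP

variable {I W : Type*} [Fintype I] [DecidableEq I] [Group W] {M : CoxeterMatrix I}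
  {cs : CoxeterSystem M W} {A : I → I → ℤ} {h : IsCartan M A}
  {G : Type*} [Group G] {K : Subgroup G} {T₀ : Subgroup ↥K} {n : I → ↥K} {X : (I → ℤ) → Subgroup ↥K} {q : ℕ}

/-- **`HasP`, all `q`**, if the diagram contains a path with four nodes. -/
theorem hasP_path4 [Finite G] [Finite W] (D : Datum (⊤ : Subgroup ↥K) q cs h T₀ n X) (hP : Path4 M) :
    FrontSL.HasP cs h X := by
  intro r hr
  obtain ⟨L, h1, h2, h3⟩ := exists_perf D hP hr
  exact ⟨L, h1, h2, fun y hy x hx => ((KData.rg D).XP hr hx (h3 hy)).symm⟩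

end HasP

/-! ### The diagrams -/

open Cfsg.Agent.LieRecognition.BNCox (cA cA_apply)
open Cfsg.Agent.LieRecognition.CoxClass (mA)

theorem path4_A {n : ℕ} (hn : 4 ≤ n) : Path4 (cA n) := by
  refine ⟨⟨0, by omega⟩, ⟨1, by omega⟩, ⟨2, by omega⟩, ⟨3, by omega⟩, ?_, ?_, ?_, ?_, ?_, ?_, ?_, ?_, ?_, ?_, ?_, ?_⟩
  all_goals first
    | (simp [Fin.ext_iff]; done)
    | (rw [cA_apply]; simp [mA])

theorem path4_D {n : ℕ} (hn : 3 ≤ n) : Path4 (Cfsg.Agent.Nodes.TypeD.M n) := by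
  refine ⟨⟨n - 3, by omega⟩, ⟨n - 2, by omega⟩, ⟨n - 1, by omega⟩, ⟨n, by omega⟩, ?_, ?_, ?_, ?_, ?_, ?_, ?_, ?_, ?_,
    ?_, ?_, ?_⟩
  all_goals first
    | (intro h; have := congrArg Fin.val h; simp only at this; omega)
    | (rw [Cfsg.Agent.Nodes.TypeD.M_apply]; unfold Cfsg.Agent.Nodes.TypeD.Adj; simp only [Fin.ext_iff]
       split_ifs <;> omega)

theorem path4_E6 : Path4 CoxeterMatrix.E₆ :=
  ⟨0, 2, 3, 4, by decide, by decide, by decide, by decide, by decide, by decide, by decide, by decide, by decide,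
    by decide, by decide, by decide⟩

theorem path4_E7 : Path4 CoxeterMatrix.E₇ :=
  ⟨0, 2, 3, 4, by decide, by decide, by decide, by decide, by decide, by decide, by decide, by decide, by decide,
    by decide, by decide, by decide⟩

theorem path4_E8 : Path4 CoxeterMatrix.E₈ :=
  ⟨0, 2, 3, 4, by decide, by decide, by decide, by decide, by decide, by decide, by decide, by decide, by decide,
    by decide, by decide, by decide⟩

end Cfsg.Agent.OddHalf.D7Out.HasPTwo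

end

-- merged: Cfsg.Agent.OddHalf.D7Ex.TorSys
section

/-!
# The torus elements of `Tor` from coordinates, rank at least `3`, `q > 2`

* `tor` : `h = h_r(c)`, `k = h_β(c)`, `β` orthogonal to `r`; `Tor.map`; `exists_tor` in `G`;
* `tab` : the torus is abelian;
* `exists_base0` : `OfFront.exists_base0` without the hypotheses on the rank and the torus.
-/

set_option autoImplicit false
set_option linter.unusedSectionVars false

namespace Cfsg.Agent.OddHalf.D7Ex.TorSys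

open Cfsg.Agent.OddHalf.SL Cfsg.Agent.KFacts CoxeterSystem Cfsg.Agent.ChevalleyStructure.CoxeterGeom Cfsg.Agent.Tits.Roots Cfsg.Agent.Tits.Core
  Cfsg.Agent.Tits.RootComb Cfsg.Agent.Nodes.Comb Cfsg.Agent.Nodes.Reps Cfsg.Agent.Nodes.BNOf
  Cfsg.Agent.Nodes.Bruhat Cfsg.Agent.Nodes.Coroot Cfsg.Agent.OddHalf.SL.Index Cfsg.Agent.OddHalf.SL.OfRGD
  Cfsg.Agent.OddHalf.SL.PreOf Cfsg.Agent.KFacts.RgdPar Cfsg.Agent.KFacts.RgdSL Cfsg.Agent.KFacts.RgdTI
  Cfsg.Agent.KFacts.RgdCent Cfsg.Agent.KFacts.RgdOdd Cfsg.Agent.KFacts.RgdEx Cfsg.Agent.KFacts.SLRow.Def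
  Cfsg.Agent.KFacts.ChevTwo Cfsg.Agent.KFacts.RgdSys
  Cfsg.Agent.OddHalf.SL.OfDatum Cfsg.Agent.OddHalf.D7Ex.KData Cfsg.Agent.OddHalf.D7Ex.KFull
  Cfsg.Agent.OddHalf.D7Ex.OutBase Cfsg.Agent.OddHalf.D7Out
open scoped commutatorElement

/-- transport of `Tor` -/
theorem map_tor {L Y Y' : Type*} [AddCommGroup L] [Group Y] [Group Y'] {B : L → L → ℤ} {Φ : Set L} {X : L → Subgroup Y}
    {r : L} {T : Subgroup Y} {β : L} {g k : Y} (H : Tor B Φ X r T β g k) (f : Y →* Y') (hf : Function.Injective f) :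
    Tor B Φ (fun x => (X x).map f) r (T.map f) β (f g) (f k) where
  mβ := H.mβ
  βr := H.βr
  mh := ⟨g, H.mh, rfl⟩
  kT := ⟨k, H.kT, rfl⟩
  kP := by
    have h1 : PR B Φ X r ≤ (PR B Φ (fun x => (X x).map f) r).comap f := by
      refine PR_le fun b hb hb0 x hx => ?_
      exact le_PR (fun x => (X x).map f) hb hb0 ⟨x, hx, rfl⟩
    exact h1 H.kP
  hk := by
    rintro c hc h1 h2 _ ⟨x, hx, rfl⟩
    rw [← map_inv, ← map_inv, ← map_mul, ← map_mul, ← map_mul, ← map_mul, H.hk c hc h1 h2 x hx]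
  h0 := by
    rintro b hb hbr _ ⟨x, hx, rfl⟩
    rw [← map_mul, ← map_mul, H.h0 b hb hbr x hx]
  ne := by
    obtain ⟨x, hx, hne⟩ := H.ne
    refine ⟨f x, ⟨x, hx, rfl⟩, fun h1 => hne (hf ?_)⟩
    rw [map_mul, map_mul, map_inv]; exact h1
  odd := by
    obtain ⟨m, hm, h1⟩ := H.odd
    exact ⟨m, hm, by rw [← map_pow, h1, map_one]⟩

variable {I W Y : Type*} [Fintype I] [DecidableEq I] [Group W] [Group Y] {M : CoxeterMatrix I}
  {cs : CoxeterSystem M W} {A : I → I → ℤ} {h : IsCartan M A} {q : ℕ}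

section

variable [Finite W] {T : Subgroup Y} {n : I → Y} {X : (I → ℤ) → Subgroup Y} {F : Type*} [Field F]
  {e : (I → ℤ) → F → Y} (D : Datum (⊤ : Subgroup Y) q cs h T n X) (Sy : Sys D.rgd e)

include D Sy

/-- an element different from `0` and `1` of the field -/
theorem exists_field (hq : 2 < q) : ∃ c : F, c ≠ 0 ∧ c ≠ 1 := by
  have hnt : Nonempty I := by
    have := D.three
    exact Fintype.card_pos_iff.1 (by omega)
  obtain ⟨i⟩ := hnt
  have hr := isRoot_sr cs h i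
  by_contra hcon
  push Not at hcon
  have h1 : Nat.card ↥(X (sr i)) ≤ 2 := by
    have h2 : Function.Surjective (fun b : Bool => (⟨e (sr i) (if b then 1 else 0), Sy.mem hr _⟩ : ↥(X (sr i)))) := by
      rintro ⟨x, hx⟩
      obtain ⟨c, rfl⟩ := (Sy.mem_X _ hr x).1 hx
      by_cases hc : c = 0
      · exact ⟨false, by simp [hc]⟩
      · exact ⟨true, by simp [hcon c hc]⟩
    have h3 := Nat.card_le_card_of_surjective _ h2
    simpa using h3
  rw [D.card _ hr] at h1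
  omega

/-- **The torus is abelian.** -/
theorem tab : ∀ g ∈ T, ∀ k ∈ T, g * k = k * g := by
  intro g hg k hk
  obtain ⟨χ, hχ⟩ := Sy.chi g hg
  obtain ⟨ψ, hψ⟩ := Sy.chi k hk
  refine ext_T Sy D.cent (mul_mem hg hk) (mul_mem hk hg) fun r hr a => ?_
  calc g * k * e r a * (g * k)⁻¹ = g * (k * e r a * k⁻¹) * g⁻¹ := by group
    _ = e r (((ψ r).toMul : Fˣ) * (((χ r).toMul : Fˣ) * a)) := by rw [hψ r hr, hχ r hr, mul_left_comm]
    _ = k * (g * e r a * g⁻¹) * k⁻¹ := by rw [hχ r hr, hψ r hr]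
    _ = k * g * e r a * (k * g)⁻¹ := by group

/-- **The torus elements at a root `r`.** -/
theorem tor {c : F} (hc0 : c ≠ 0) (hc1 : c ≠ 1) {r β : I → ℤ} (hr : IsRoot cs h r) (hβ : IsRoot cs h β)
    (hβr : Bf A β r = 0) :
    Tor (Bf A) {x | IsRoot cs h x} X r T β (hel e r c) (hel e β c) := by
  have hR := roots cs h D.h4 D.h6
  have act : ∀ y, IsRoot cs h y → ∀ x, IsRoot cs h x → ∀ t : F,
      hel e y c * e x t * (hel e y c)⁻¹ = e x (c ^ Bf A x y * t) := fun y hy x hx t => by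
    rw [Sy.data.hel_conj hx hy hc0, bf_eq_cpr D.h4 D.h6 x hy]
  have hT : ∀ y, IsRoot cs h y → hel e y c ∈ T := fun y hy => hel_mem Sy D.gen hy hc0
  refine ⟨hβ, hβr, hT r hr, hT β hβ, ?_, ?_, ?_, ?_, ?_⟩
  · have h5 : ∀ t, e β t ∈ PR (Bf A) {x | IsRoot cs h x} X r := fun t =>
      le_PR X hβ (by rw [hβr]) (Sy.mem hβ t)
    have h6 : ∀ t, e (-β) t ∈ PR (Bf A) {x | IsRoot cs h x} X r := fun t =>
      le_PR X hβ.neg (by rw [hR.neg_left, hβr, neg_zero]) (Sy.mem hβ.neg t)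
    rw [hel_def, nel, nc_def, nc_def]
    exact mul_mem (mul_mem (mul_mem (h5 _) (h6 _)) (h5 _)) (mul_mem (mul_mem (h5 _) (h6 _)) (h5 _))
  · intro x hx hx1 hx2 y hy
    obtain ⟨t, rfl⟩ := (Sy.mem_X x hx y).1 hy
    rw [act _ hr _ hx, act _ hβ _ hx, hx1, hx2]
  · intro x hx hx1 y hy
    obtain ⟨t, rfl⟩ := (Sy.mem_X x hx y).1 hy
    have h3 := act _ hr _ hx t
    rw [hx1, zpow_zero, one_mul, mul_inv_eq_iff_eq_mul] at h3
    exact h3
  · refine ⟨e r 1, Sy.mem hr 1, ?_⟩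
    rw [act _ hr _ hr]
    intro h3
    have h4 := Sy.data.injective hr h3
    rw [hR.two r hr, mul_one] at h4
    have h6 : (c - 1) * (c - 1) = 0 := by
      have h8 := Sy.data.two (1 : F)
      have h9 : c * c = 1 := (zpow_two c).symm.trans h4
      linear_combination h9 + (-c + 1) * h8
    exact hc1 (sub_eq_zero.1 (mul_self_eq_zero.1 h6))
  · refine ⟨Nat.card T, Nat.coprime_two_right.1 D.rgd.tcop, ?_⟩
    have := pow_card_eq_one' (G := T) (x := ⟨hel e r c, hT r hr⟩)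
    exact congrArg Subtype.val this

/-- **Every root has torus elements**, `q > 2`. -/
theorem exists_tor_top [Finite Y] (hq : 2 < q) {r : I → ℤ} (hr : IsRoot cs h r) :
    ∃ β g k, Tor (Bf A) {x | IsRoot cs h x} X r T β g k := by
  have hR := roots cs h D.h4 D.h6
  obtain ⟨c, hc0, hc1⟩ := exists_field D Sy hq
  obtain ⟨s, hs, hrs⟩ := exists_neg_one D.h4 D.h6 D.irr D.three hr
  have hs1 : (-s) ∈ Ph1 (Bf A) {x | IsRoot cs h x} r := by
    refine ⟨hs.neg, ?_⟩
    rw [hR.neg_left, hR.symm, hrs, neg_neg]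
  obtain ⟨β, hβ, h1, -⟩ := exists_orth D hr hs1
  exact ⟨β, _, _, tor D Sy hc0 hc1 hr hβ h1⟩

end

section

variable {G : Type*} [Group G] {K : Subgroup G} {t : G}
variable [Finite W] [Finite G] {T₀ : Subgroup ↥K} {n₀ : I → ↥K} {X₀ : (I → ℤ) → Subgroup ↥K} {F : Type*} [Field F]
  {e : (I → ℤ) → F → ↥K} {v : G} {ρ : I → ℤ} {T : Subgroup G} {g : ↥T →* Equiv.Perm I × (F ≃+* F)} {m z : G}

/-- Every root has torus elements in `G`. -/
theorem exists_tor (D : Datum (⊤ : Subgroup ↥K) q cs h T₀ n₀ X₀) (Sy : Sys D.rgd e) (hq : 2 < q) {r : I → ℤ}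
    (hr : IsRoot cs h r) :
    ∃ β g k, Tor (Bf A) {x | IsRoot cs h x} (fun x => (X₀ x).map K.subtype) r (T₀.map K.subtype) β g k := by
  obtain ⟨β, g, k, H⟩ := exists_tor_top D Sy hq hr
  exact ⟨β, _, _, map_tor H K.subtype K.subtype_injective⟩

/-- **`Base0` at `ρ` from the front**, `q > 2`, every rank `≥ 3`. -/
theorem exists_base0 (D : Datum (⊤ : Subgroup ↥K) q cs h T₀ n₀ X₀) (Sy : Sys D.rgd e)
    (O : FrontSL.Out cs h T₀ X₀ e t v ρ T g m z) (C : CT t K) (hq : 2 < q) :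
    ∃ V, Base0.Base0 (dm D).rgd t ρ V :=
  OfFront.exists_base0 D O C (tab D Sy) hq (Or.inr (exists_tor D Sy hq O.root))

end

end Cfsg.Agent.OddHalf.D7Ex.TorSys

end

-- merged: Cfsg.Agent.OddHalf.D7.RowSL
section

/-!
# Node D7 for the simply laced families (helper158)

* `impossible_big` : `StartSL.Impossible q M` for `q > 2`, all simply laced `M` of rank at least `3`;
* `ExTwo M` : existence of the doubled root group (`MainSL.HasEx`) for `q = 2`;
* `impossible_two` : `q = 2` from `Path4 M` and `ExTwo M`;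
* `node_L`, `node_OPlus`, `node_E6`, `node_E7`, `node_E8` : the nodes from `ExTwo`.
-/

set_option autoImplicit false
set_option linter.unusedSectionVars false

namespace Cfsg.Agent.OddHalf.D7.RowSL

open Cfsg
open CoxeterSystem Cfsg.Agent.ChevalleyStructure.CoxeterGeom Cfsg.Agent.Tits.Roots Cfsg.Agent.Tits.Core
  Cfsg.Agent.Nodes.Reps Cfsg.Agent.Nodes.BNOf Cfsg.Agent.Nodes.RGDLib Cfsg.Agent.KFacts Cfsg.Agent.KFacts.SLRow.Def
  Cfsg.Agent.KFacts.ChevTwo Cfsg.Agent.KFacts.SLRow.Diag Cfsg.Agent.KFacts.SLRow.Row Cfsg.Agent.OddHalf.Iface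
  Cfsg.Agent.OddHalf.D7.Cases Cfsg.Agent.OddHalf.Front.FE Cfsg.Agent.Schreier.Basic Cfsg.Agent.OddHalf.D7.StartSL
  Cfsg.Agent.OddHalf.D7Out Cfsg.Agent.LieRecognition.BNCox

universe u

/-- **`q > 2`.** -/
theorem impossible_big {q l : ℕ} {M : CoxeterMatrix (Fin l)} (hq : 2 < q) : Impossible.{u} q M := by
  intro G _ hfin K A h T n X F _ hF _ e hW hc hM D Sy hcom hs hab t v hst
  have := hfin
  have := hF
  have := hW
  exact GrSL.false_of_big hcom hst hs D Sy hM hq (Or.inr fun ρ hρ _ =>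
    Cfsg.Agent.OddHalf.D7Ex.TorSys.exists_tor D Sy hq hρ)

/-- Existence of the doubled root group for `q = 2`. -/
def ExTwo {l : ℕ} (M : CoxeterMatrix (Fin l)) : Prop :=
  ∀ (G : Type u) [Group G] (_ : Finite G) (K : Subgroup G) (A : Fin l → Fin l → ℤ) (h : IsCartan M A)
    (T : Subgroup ↥K) (n : Fin l → ↥K) (X : (Fin l → ℤ) → Subgroup ↥K) (F : Type) (_ : Field F) (_ : Finite F)
    (_ : CharP F 2) (e : (Fin l → ℤ) → F → ↥K) (_ : Finite M.Group) (_ : Nat.card F = 2) (_ : DTwo M)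
    (D : Datum (⊤ : Subgroup ↥K) 2 M.toCoxeterSystem h T n X) (_ : Sys D.rgd e) (t v : G),
    MainSL.HasEx D e t v

/-- **`q = 2`** from the existence of the doubled root group. -/
theorem impossible_two {l : ℕ} {M : CoxeterMatrix (Fin l)} (hP : HasPTwo.Path4 M) (hE : ExTwo.{u} M) :
    Impossible.{u} 2 M := by
  intro G _ hfin K A h T n X F _ hF _ e hW hc hM D Sy hcom hs hab t v hst
  have := hfin
  have := hF
  have := hW
  exact GrSL.false_of_two hcom hst hs D Sy hM (HasPTwo.hasP_path4 D hP)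
    (hE G hfin K A h T n X F _ hF inferInstance e hW hc hM D Sy t v)

theorem two_lt_pow {a : ℕ} (ha : 2 ≤ a) : 2 < 2 ^ a :=
  calc 2 < 2 ^ 2 := by norm_num
    _ ≤ 2 ^ a := Nat.pow_le_pow_right (by norm_num) ha

/-- All `q`. -/
theorem impossible {l a : ℕ} {M : CoxeterMatrix (Fin l)} (ha : 1 ≤ a) (h : a = 1 → HasPTwo.Path4 M ∧ ExTwo.{u} M) :
    Impossible.{u} (2 ^ a) M := by
  rcases Nat.lt_or_ge 1 a with h1 | h1
  · exact impossible_big (two_lt_pow h1)
  · obtain rfl : a = 1 := le_antisymm h1 ha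
    rw [pow_one]
    exact impossible_two (h rfl).1 (h rfl).2

theorem node_L (h : ∀ n : ℕ, 4 ≤ n → ExTwo.{u} (cA n)) : Node.{u} @FamL.{u} := by
  refine StartSL.node_L fun a n ha hn h3 => impossible ha ?_
  rintro rfl
  have h4 : 4 ≤ n := by
    rcases Nat.lt_or_ge n 4 with h5 | h5
    · have := h3 (by omega); omega
    · exact h5
  exact ⟨HasPTwo.path4_A h4, h n h4⟩

theorem node_OPlus (h : ∀ n : ℕ, 3 ≤ n → ExTwo.{u} (Cfsg.Agent.Nodes.TypeD.M n)) : Node.{u} @FamOPlus'.{u} := by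
  refine StartSL.node_OPlus fun a n ha hn h3 => impossible ha ?_
  rintro rfl
  have h4 : 3 ≤ n := by
    rcases Nat.lt_or_ge n 3 with h5 | h5
    · have := h3 (by omega); omega
    · exact h5
  exact ⟨HasPTwo.path4_D h4, h n h4⟩

theorem node_E6 (h : ExTwo.{u} CoxeterMatrix.E₆) : Node.{u} @FamE6.{u} :=
  StartSL.node_E6 fun _ ha => impossible ha fun _ => ⟨HasPTwo.path4_E6, h⟩

theorem node_E7 (h : ExTwo.{u} CoxeterMatrix.E₇) : Node.{u} @FamE7.{u} :=
  StartSL.node_E7 fun _ ha => impossible ha fun _ => ⟨HasPTwo.path4_E7, h⟩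

theorem node_E8 (h : ExTwo.{u} CoxeterMatrix.E₈) : Node.{u} @FamE8.{u} :=
  StartSL.node_E8 fun _ ha => impossible ha fun _ => ⟨HasPTwo.path4_E8, h⟩

end Cfsg.Agent.OddHalf.D7.RowSL

end
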