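import Cfsg.Agent.OddHalf.D7Ex.Lin
import Cfsg.Agent.OddHalf.D7Ex.TriE
import Cfsg.Agent.OddHalf.D7Ex.DLastOf
import Cfsg.Agent.OddHalf.D7.RowSL
import Cfsg.Agent.OddHalf.D7Out.SylOf
import Cfsg.Agent.OddHalf.D7Ex.KRD

-- merged: Cfsg.Agent.OddHalf.D7Ex.LinA
section

/-!
# `q = 2`, an isolated root `b` of `r^⊥`: the elements trivial on `P/Q` (helper875)

`P = ⟨X d : (d, r) = (d, b) = 0⟩ Q`, `(c, b) = ± 1` for all `c` with `(c, r) = 1`: `Q/X` is a sum of pairs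
`{c, c ∓ b}`, on which an element `n` trivial on `P/Q` acts by one and the same matrix; some `a ∈ ⟨X b, X (-b)⟩` acts
in the same way: **`exists_A`** : `a⁻¹ n` is trivial on `Q/X`.
-/

set_option autoImplicit false
set_option linter.style.haveILetI false
set_option linter.unusedSectionVars false
set_option linter.unusedVariables false

namespace Cfsg.Agent.OddHalf.D7Ex

open Subgroup Cfsg.Agent.OddHalf.SL.Defs
open scoped commutatorElement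

variable {L : Type*} [AddCommGroup L] {G : Type*} [Group G]

/-- `b` is an isolated root of `r^⊥` and `P = ⟨X d : (d, r) = (d, b) = 0⟩ Q`. -/
structure PA (B : L → L → ℤ) (Φ : Set L) (X : L → Subgroup G) (r b : L) (P : Subgroup G) : Prop where
  hb : b ∈ Φ
  br : B b r = 0
  pm : ∀ c ∈ Ph1 B Φ r, B c b = 1 ∨ B c b = -1
  ld : ∀ d ∈ Φ, B d r = 0 → B d b = 0 → X d ≤ P
  lt : P ≤ (⨆ d ∈ {d | d ∈ Φ ∧ B d r = 0 ∧ B d b = 0}, X d) ⊔ QS X (Ph1 B Φ r) r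
  ex : ∀ c ∈ Ph1 B Φ r, ∃ d ∈ Φ, B d r = 0 ∧ B d b = 0 ∧ B c d = 1
  two : ∀ a ∈ Φ, ∀ x ∈ X a, ∀ y ∈ X a, x ≠ 1 → y ≠ 1 → x = y

namespace PA

variable {B : L → L → ℤ} {Φ : Set L} {X : L → Subgroup G} {r b : L} {P : Subgroup G}

theorem neg (R : Roots B Φ) (p : PA B Φ X r b P) : PA B Φ X r (-b) P where
  hb := R.neg_mem b p.hb
  br := by rw [R.neg_left, p.br, neg_zero]
  pm := fun c hc => by
    rcases p.pm c hc with h | h
    · right; rw [R.neg_right, h]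
    · left; rw [R.neg_right, h]; norm_num
  ld := fun d hd h1 h2 => p.ld d hd h1 (by rw [R.neg_right] at h2; omega)
  lt := by
    refine p.lt.trans (sup_le_sup_right (biSup_mono fun d hd => ⟨hd.1, hd.2.1, ?_⟩) _)
    rw [R.neg_right, hd.2.2, neg_zero]
  ex := fun c hc => by
    obtain ⟨d, hd, h1, h2, h3⟩ := p.ex c hc
    exact ⟨d, hd, h1, by rw [R.neg_right, h2, neg_zero], h3⟩
  two := p.two

/-- `c + b` for `(c, b) = -1` -/
theorem add_mem (R : Roots B Φ) (p : PA B Φ X r b P) {c : L} (hc : c ∈ Ph1 B Φ r) (h1 : B c b = -1) :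
    c + b ∈ Ph1 B Φ r ∧ B (c + b) b = 1 := by
  refine ⟨⟨R.add c hc.1 b p.hb h1, ?_⟩, ?_⟩
  · rw [R.add_left, hc.2, p.br]; norm_num
  · rw [R.add_left, h1, R.two b p.hb]; norm_num

/-- `c - b` for `(c, b) = 1` -/
theorem sub_mem (R : Roots B Φ) (p : PA B Φ X r b P) {c : L} (hc : c ∈ Ph1 B Φ r) (h1 : B c b = 1) :
    c - b ∈ Ph1 B Φ r ∧ B (c - b) b = -1 := by
  refine ⟨⟨R.sub_mem hc.1 p.hb h1, ?_⟩, ?_⟩
  · rw [R.sub_left, hc.2, p.br]; norm_num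
  · rw [R.sub_left, h1, R.two b p.hb]; norm_num

/-- two roots of `Ph1` on the same side of `b` -/
theorem rel (h : RG B Φ X) (hr : r ∈ Φ) (p : PA B Φ X r b P) {c c' : L} (hc : c ∈ Ph1 B Φ r) (hc' : c' ∈ Ph1 B Φ r)
    (h1 : B c b = 1) (h1' : B c' b = 1) : c = c' ∨ B c c' = 1 ∨ c' = r + b - c := by
  have R := h.roots
  rcases h.cases hc.1 hc'.1 with h2 | h2 | h2
  · have h3 := R.le c hc.1 c' hc'.1
    rcases (show B c c' = 0 ∨ B c c' = 1 ∨ B c c' = 2 by omega) with h4 | h4 | h4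
    · right; right
      have h5 := h.sub_mem1 hr hc
      have h6 : B (r - c) b = -1 := by
        rw [R.sub_left, R.symm r b, p.br, h1]; norm_num
      have h7 := (p.add_mem R h5 h6).1
      have h8 : B (r - c + b) c' = 2 := by
        rw [R.add_left, R.sub_left, R.symm r, hc'.2, h4, R.symm b, h1']; norm_num
      rw [← R.eq _ h7.1 _ hc'.1 h8]; abel
    · exact Or.inr (Or.inl h4)
    · exact Or.inl (R.eq _ hc.1 _ hc'.1 h4)
  · exfalso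
    have h3 := h.add_eq hr hc hc' h2
    have h4 := R.add_left c c' b
    rw [h3, R.symm r b, p.br, h1, h1'] at h4
    omega
  · exfalso
    have h3 := hc.2
    rw [h2, R.neg_left, hc'.2] at h3
    omega

/-- separation of different pairs, one side -/
theorem sep1 (h : RG B Φ X) (hr : r ∈ Φ) (p : PA B Φ X r b P) {c c' : L} (hc : c ∈ Ph1 B Φ r)
    (hc' : c' ∈ Ph1 B Φ r) (h1 : B c b = 1) (h1' : B c' b = 1) (hne : c' ≠ c) :
    ∃ d ∈ Φ, B d r = 0 ∧ B d b = 0 ∧ B c d = 1 ∧ B c' d ≠ 1 := by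
  have R := h.roots
  rcases p.rel h hr hc hc' h1 h1' with h2 | h2 | h2
  · exact absurd h2.symm hne
  · refine ⟨c - c', R.sub_mem hc.1 hc'.1 h2, ?_, ?_, ?_, ?_⟩
    · rw [R.sub_left, hc.2, hc'.2]; norm_num
    · rw [R.sub_left, h1, h1']; norm_num
    · rw [R.sub_right, R.two c hc.1, h2]; norm_num
    · rw [R.sub_right, R.two c' hc'.1, R.symm c', h2]; norm_num
  · obtain ⟨d, hd, h3, h4, h5⟩ := p.ex c hc
    refine ⟨d, hd, h3, h4, h5, ?_⟩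
    rw [h2, R.sub_left, R.add_left, R.symm r, h3, R.symm b, h4, h5]; norm_num

/-- separation of different pairs -/
theorem sep (h : RG B Φ X) (hr : r ∈ Φ) (p : PA B Φ X r b P) {c c' : L} (hc : c ∈ Ph1 B Φ r)
    (hc' : c' ∈ Ph1 B Φ r) (h1 : B c b = 1) (hne : c' ∉ ({c, c - b} : Set L)) :
    ∃ d ∈ Φ, B d r = 0 ∧ B d b = 0 ∧ B c d = 1 ∧ B c' d ≠ 1 := by
  have R := h.roots
  rw [Set.mem_insert_iff, Set.mem_singleton_iff, not_or] at hne
  rcases p.pm c' hc' with h2 | h2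
  · exact p.sep1 h hr hc hc' h1 h2 hne.1
  · obtain ⟨h3, h4⟩ := p.add_mem R hc' h2
    obtain ⟨d, hd, h5, h6, h7, h8⟩ := p.sep1 h hr hc h3 h1 h4 (fun e => hne.2 (eq_sub_of_add_eq e))
    refine ⟨d, hd, h5, h6, h7, fun e => h8 ?_⟩
    rw [R.add_left, e, R.symm b, h6]; norm_num

/-- an element trivial on `P/Q` preserves the pairs -/
theorem conj_pair (h : RG B Φ X) (hr : r ∈ Φ) (p : PA B Φ X r b P) {n : G}
    (hnQ : ∀ q ∈ QS X (Ph1 B Φ r) r, n * q * n⁻¹ ∈ QS X (Ph1 B Φ r) r)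
    (hnP : ∀ p ∈ P, n * p * n⁻¹ * p⁻¹ ∈ QS X (Ph1 B Φ r) r) {c : L} (hc : c ∈ Ph1 B Φ r) (h1 : B c b = 1)
    {u : G} (hu : u ∈ X c) : ∃ x ∈ X c, ∃ y ∈ X (c - b), ∃ z ∈ X r, n * u * n⁻¹ = x * y * z := by
  have R := h.roots
  have hs := p.sub_mem R hc h1
  have h2 : n * u * n⁻¹ ∈ QS X (Ph1 B Φ r ∩ {c, c - b}) r := by
    refine h.mem_QS hr (hnQ u (le_QS X r hc hu)) fun c' hc' hne y hy => ?_
    obtain ⟨d, hd, hdr, hdb, hcd, hcd'⟩ := p.sep h hr hc hc' h1 hne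
    exact h.comm_of_not_mem hr (S := {b | b ∈ Ph1 B Φ r ∧ B b d = 1}) (fun b hb => hb.1) hc'
      (fun h => hcd' h.2) (h.conj_mem_Rd hr hd hdr (p.ld d hd hdr hdb) hnQ hnP hc hcd hu) hy
  have hsub : Ph1 B Φ r ∩ {c, c - b} ⊆ Ph1 B Φ r := Set.inter_subset_left
  obtain ⟨x, hx, w, hw, e⟩ := h.split hr hsub (b := c) ⟨hc, Set.mem_insert _ _⟩ h2
  have hcb : c - b ≠ c := by
    intro e
    have h3 := hs.2
    rw [e, h1] at h3
    omega
  obtain ⟨y, hy, z, hz, e'⟩ := h.split hr (S := (Ph1 B Φ r ∩ {c, c - b}) \ {c}) (fun a ha => ha.1.1) (b := c - b)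
    ⟨⟨hs.1, Set.mem_insert_of_mem _ rfl⟩, hcb⟩ hw
  have h3 : QS X (((Ph1 B Φ r ∩ {c, c - b}) \ {c}) \ {c - b}) r ≤ X r := QS_le le_rfl fun a ha => by
    rcases ha.1.1.2 with h4 | h4
    · exact absurd h4 ha.1.2
    · exact absurd h4 ha.2
  exact ⟨x, hx, y, hy, z, h3 hz, by rw [e, e', mul_assoc]⟩

/-- the elements of `X b` are trivial on `P/Q` -/
theorem comm_P (h : RG B Φ X) (hr : r ∈ Φ) (p : PA B Φ X r b P) {β : G} (hβ : β ∈ X b) :
    ∀ y ∈ P, β * y * β⁻¹ * y⁻¹ ∈ QS X (Ph1 B Φ r) r := by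
  have hβP : β ∈ PR B Φ X r := le_PR X p.hb (by rw [p.br]) hβ
  let D : Subgroup G :=
    { carrier := {y | y ∈ PR B Φ X r ∧ β * y * β⁻¹ * y⁻¹ ∈ QS X (Ph1 B Φ r) r}
      one_mem' := ⟨one_mem _, by rw [mul_one, mul_inv_cancel, inv_one, mul_one]; exact one_mem _⟩
      mul_mem' := by
        rintro a c ⟨ha, ha2⟩ ⟨hc, hc2⟩
        refine ⟨mul_mem ha hc, ?_⟩
        have e : β * (a * c) * β⁻¹ * (a * c)⁻¹ = (β * a * β⁻¹ * a⁻¹) * (a * (β * c * β⁻¹ * c⁻¹) * a⁻¹) := by group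
        rw [e]
        exact mul_mem ha2 (h.PQ hr ha hc2)
      inv_mem' := by
        rintro a ⟨ha, ha2⟩
        refine ⟨inv_mem ha, ?_⟩
        have e : β * a⁻¹ * β⁻¹ * a⁻¹⁻¹ = a⁻¹ * (β * a * β⁻¹ * a⁻¹)⁻¹ * a⁻¹⁻¹ := by group
        rw [e]
        exact h.PQ hr (inv_mem ha) (inv_mem ha2) }
  have hle : (⨆ d ∈ {d | d ∈ Φ ∧ B d r = 0 ∧ B d b = 0}, X d) ⊔ QS X (Ph1 B Φ r) r ≤ D := by
    refine sup_le (iSup₂_le fun d hd y hy => ⟨le_PR X hd.1 (by rw [hd.2.1]) hy, ?_⟩) fun y hy =>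
      ⟨h.QS_le_PR hr subset_rfl hy, mul_mem (h.PQ hr hβP hy) (inv_mem hy)⟩
    have e : β * y * β⁻¹ * y⁻¹ = 1 := by
      rw [h.pos b p.hb d hd.1 (by rw [h.roots.symm, hd.2.2]) β hβ y hy]; group
    rw [e]; exact one_mem _
  exact fun y hy => (hle (p.lt hy)).2

theorem A_le_PR (h : RG B Φ X) (p : PA B Φ X r b P) : X b ⊔ X (-b) ≤ PR B Φ X r :=
  sup_le (le_PR X p.hb (by rw [p.br])) (le_PR X (h.roots.neg_mem b p.hb) (by rw [h.roots.neg_left, p.br]; norm_num))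

/-- the elements of `⟨X b, X (-b)⟩` are trivial on `P/Q` -/
theorem A_comm (h : RG B Φ X) (hr : r ∈ Φ) (p : PA B Φ X r b P) :
    ∀ a ∈ X b ⊔ X (-b), ∀ y ∈ P, a * y * a⁻¹ * y⁻¹ ∈ QS X (Ph1 B Φ r) r := by
  have hA := p.A_le_PR h
  let D : Subgroup G :=
    { carrier := {a | a ∈ PR B Φ X r ∧ ∀ y ∈ P, a * y * a⁻¹ * y⁻¹ ∈ QS X (Ph1 B Φ r) r}
      one_mem' := ⟨one_mem _, fun y _ => by rw [one_mul, inv_one, mul_one, mul_inv_cancel]; exact one_mem _⟩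
      mul_mem' := by
        rintro a c ⟨ha, ha2⟩ ⟨hc, hc2⟩
        refine ⟨mul_mem ha hc, fun y hy => ?_⟩
        have e : (a * c) * y * (a * c)⁻¹ * y⁻¹ = (a * (c * y * c⁻¹ * y⁻¹) * a⁻¹) * (a * y * a⁻¹ * y⁻¹) := by group
        rw [e]
        exact mul_mem (h.PQ hr ha (hc2 y hy)) (ha2 y hy)
      inv_mem' := by
        rintro a ⟨ha, ha2⟩
        refine ⟨inv_mem ha, fun y hy => ?_⟩
        have e : a⁻¹ * y * a⁻¹⁻¹ * y⁻¹ = a⁻¹ * (a * y * a⁻¹ * y⁻¹)⁻¹ * a⁻¹⁻¹ := by group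
        rw [e]
        exact h.PQ hr (inv_mem ha) (inv_mem (ha2 y hy)) }
  have hle : X b ⊔ X (-b) ≤ D := sup_le (fun a ha => ⟨hA (mem_sup_left ha), p.comm_P h hr ha⟩)
    fun a ha => ⟨hA (mem_sup_right ha), (p.neg h.roots).comm_P h hr ha⟩
  exact fun a ha => (hle ha).2

/-- triviality at `c` implies triviality at `d + c`, `(d, c) = -1` -/
theorem transport (h : RG B Φ X) (hr : r ∈ Φ) (hPP : P ≤ PR B Φ X r) {n : G}
    (hnX : ∀ x ∈ X r, n * x * n⁻¹ ∈ X r)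
    (hnP : ∀ p ∈ P, n * p * n⁻¹ * p⁻¹ ∈ QS X (Ph1 B Φ r) r) {c d : L} (hc : c ∈ Ph1 B Φ r) (hd : d ∈ Φ)
    (hdP : X d ≤ P) (hdr : B d r = 0) (hdc : B d c = -1) (H : ∀ u ∈ X c, n * u * n⁻¹ * u⁻¹ ∈ X r) :
    ∀ v ∈ X (d + c), n * v * n⁻¹ * v⁻¹ ∈ X r := by
  intro v hv
  obtain ⟨y, hy, hy1⟩ := h.ne d hd
  obtain ⟨u, hu, e⟩ := h.sur d hd c hc.1 hdc y hy hy1 v hv
  have hq := hnP y (hdP hy)
  have hz := H u hu
  have huQ : u ∈ QS X (Ph1 B Φ r) r := le_QS X r hc hu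
  have huP := h.QS_le_PR hr subset_rfl huQ
  have hdc1 : d + c ∈ Ph1 B Φ r := ⟨h.roots.add d hd c hc.1 hdc, by rw [h.roots.add_left, hdr, hc.2]; norm_num⟩
  have hvQ : v ∈ QS X (Ph1 B Φ r) r := le_QS X r hdc1 hv
  set q := n * y * n⁻¹ * y⁻¹ with hqd
  set z := n * u * n⁻¹ * u⁻¹ with hzd
  have hqP := h.QS_le_PR hr subset_rfl hq
  have hyP := hPP (hdP hy)
  have e1 : n * v * n⁻¹ * v⁻¹ = (q * v * q⁻¹ * v⁻¹) * (v * (q * u * q⁻¹ * u⁻¹) * v⁻¹) := by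
    have e2 : n * y * n⁻¹ = q * y := by rw [hqd]; group
    have e3 : n * u * n⁻¹ = u * z := by
      rw [← h.XP hr hz huP, hzd]; group
    have c1 : z * (q * y)⁻¹ = (q * y)⁻¹ * z := h.XP hr hz (inv_mem (mul_mem hqP hyP))
    calc n * v * n⁻¹ * v⁻¹ = (n * y * n⁻¹) * (n * u * n⁻¹) * (n * y * n⁻¹)⁻¹ * (n * u * n⁻¹)⁻¹ * v⁻¹ := by
          rw [← e]; group
      _ = (q * y) * (u * z) * (q * y)⁻¹ * (u * z)⁻¹ * v⁻¹ := by rw [e2, e3]
      _ = (q * y) * u * (z * (q * y)⁻¹) * (u * z)⁻¹ * v⁻¹ := by group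
      _ = q * (y * u * y⁻¹ * u⁻¹) * u * q⁻¹ * u⁻¹ * v⁻¹ := by rw [c1]; group
      _ = _ := by rw [e]; group
  rw [e1]
  have h4 := h.QQ hr hq huQ
  refine mul_mem (h.QQ hr hq hvQ) ?_
  rw [← h.XP hr h4 (h.QS_le_PR hr subset_rfl hvQ), mul_inv_cancel_right]
  exact h4

/-- triviality at `c` implies triviality at `c'`, `(c, b) = 1 = (c', b)` -/
theorem conn (h : RG B Φ X) (hr : r ∈ Φ) (hPP : P ≤ PR B Φ X r) (p : PA B Φ X r b P) {n : G}
    (hnX : ∀ x ∈ X r, n * x * n⁻¹ ∈ X r)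
    (hnP : ∀ p ∈ P, n * p * n⁻¹ * p⁻¹ ∈ QS X (Ph1 B Φ r) r) {c c' : L} (hc : c ∈ Ph1 B Φ r) (hc' : c' ∈ Ph1 B Φ r)
    (h1 : B c b = 1) (h1' : B c' b = 1) (H : ∀ u ∈ X c, n * u * n⁻¹ * u⁻¹ ∈ X r) :
    ∀ v ∈ X c', n * v * n⁻¹ * v⁻¹ ∈ X r := by
  have R := h.roots
  have step : ∀ e ∈ Ph1 B Φ r, ∀ e' ∈ Ph1 B Φ r, B e b = 1 → B e' b = 1 → B e e' = 1 →
      (∀ u ∈ X e, n * u * n⁻¹ * u⁻¹ ∈ X r) → ∀ v ∈ X e', n * v * n⁻¹ * v⁻¹ ∈ X r := by
    intro e he e' he' h2 h2' h3 H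
    have hd : e' - e ∈ Φ := R.sub_mem he'.1 he.1 (by rw [R.symm, h3])
    have hdr : B (e' - e) r = 0 := by rw [R.sub_left, he.2, he'.2]; norm_num
    have hdb : B (e' - e) b = 0 := by rw [R.sub_left, h2, h2']; norm_num
    have := transport h hr hPP hnX hnP he hd (p.ld _ hd hdr hdb) hdr (by
      rw [R.sub_left, R.symm e', h3, R.two e he.1]; norm_num) H
    rwa [sub_add_cancel] at this
  rcases p.rel h hr hc hc' h1 h1' with h2 | h2 | h2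
  · rw [← h2]; exact H
  · exact step c hc c' hc' h1 h1' h2 H
  · obtain ⟨d, hd, h3, h4, h5⟩ := p.ex c hc
    have he : c - d ∈ Ph1 B Φ r := ⟨R.sub_mem hc.1 hd h5, by rw [R.sub_left, hc.2, h3]; norm_num⟩
    have heb : B (c - d) b = 1 := by rw [R.sub_left, h1, h4]; norm_num
    refine step (c - d) he c' hc' heb h1' ?_ (step c hc (c - d) he h1 heb ?_ H)
    · rw [h2, R.sub_right, R.add_right, he.2, heb, R.sub_left, R.two c hc.1, R.symm d, h5]; norm_num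
    · rw [R.sub_right, R.two c hc.1, h5]; norm_num

/-- `g` maps `x` to `x'` modulo `Z` -/
def Em (Z : Subgroup G) (g x x' : G) : Prop := ∃ z ∈ Z, g * x * g⁻¹ = x' * z

theorem Em.comp {Z : Subgroup G} {g g' x x' x'' : G} (hg' : ∀ z ∈ Z, g' * z * g'⁻¹ ∈ Z) (h1 : Em Z g x x')
    (h2 : Em Z g' x' x'') : Em Z (g' * g) x x'' := by
  obtain ⟨z, hz, e⟩ := h1
  obtain ⟨z', hz', e'⟩ := h2
  refine ⟨z' * (g' * z * g'⁻¹), mul_mem hz' (hg' z hz), ?_⟩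
  calc g' * g * x * (g' * g)⁻¹ = g' * (g * x * g⁻¹) * g'⁻¹ := by group
    _ = (g' * x' * g'⁻¹) * (g' * z * g'⁻¹) := by rw [e]; group
    _ = _ := by rw [e']; group

theorem Em.mul {Z : Subgroup G} {g x x' y y' : G} (hc : ∀ z ∈ Z, z * y' = y' * z) (h1 : Em Z g x x')
    (h2 : Em Z g y y') : Em Z g (x * y) (x' * y') := by
  obtain ⟨z, hz, e⟩ := h1
  obtain ⟨z', hz', e'⟩ := h2
  refine ⟨z * z', mul_mem hz hz', ?_⟩
  calc g * (x * y) * g⁻¹ = (g * x * g⁻¹) * (g * y * g⁻¹) := by group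
    _ = x' * (z * y') * z' := by rw [e, e']; group
    _ = _ := by rw [hc z hz]; group

/-- an element trivial on `P/Q` agrees on one pair with an element of `⟨X b, X (-b)⟩` -/
theorem exists_pair (h : RG B Φ X) (hr : r ∈ Φ) (p : PA B Φ X r b P) {n : G}
    (hnX' : ∀ x ∈ X r, n⁻¹ * x * n ∈ X r) 
    (hnQ : ∀ q ∈ QS X (Ph1 B Φ r) r, n * q * n⁻¹ ∈ QS X (Ph1 B Φ r) r)
    (hnP : ∀ p ∈ P, n * p * n⁻¹ * p⁻¹ ∈ QS X (Ph1 B Φ r) r) (hnX : ∀ x ∈ X r, n * x * n⁻¹ ∈ X r)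
    {c : L} (hc : c ∈ Ph1 B Φ r) (h1 : B c b = 1) {x0 y0 β β' : G} (hx0 : x0 ∈ X c) (hx1 : x0 ≠ 1)
    (hy0 : y0 ∈ X (c - b)) (hy1 : y0 ≠ 1) (hβ : β ∈ X b) (hβ1 : β ≠ 1) (hβ' : β' ∈ X (-b)) (hβ1' : β' ≠ 1) :
    ∃ a ∈ X b ⊔ X (-b), Em (X r) (a * n) x0 x0 ∧ Em (X r) (a * n) y0 y0 := by
  have R := h.roots
  have hs := p.sub_mem R hc h1
  have hnb : -b ∈ Φ := R.neg_mem b p.hb
  have hx0P := h.QS_le_PR hr subset_rfl (le_QS X r hc hx0)
  have hy0P := h.QS_le_PR hr subset_rfl (le_QS X r hs.1 hy0)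
  have hβP : β ∈ PR B Φ X r := le_PR X p.hb (by rw [p.br]) hβ
  have hβP' : β' ∈ PR B Φ X r := le_PR X hnb (by rw [R.neg_left, p.br]; norm_num) hβ'
  have cx : ∀ z ∈ X r, z * x0 = x0 * z := fun z hz => h.XP hr hz hx0P
  have cy : ∀ z ∈ X r, z * y0 = y0 * z := fun z hz => h.XP hr hz hy0P
  have nβ : ∀ z ∈ X r, β * z * β⁻¹ ∈ X r := fun z hz => by
    rw [← h.XP hr hz hβP, mul_inv_cancel_right]; exact hz
  have nβ' : ∀ z ∈ X r, β' * z * β'⁻¹ ∈ X r := fun z hz => by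
    rw [← h.XP hr hz hβP', mul_inv_cancel_right]; exact hz
  have exy : x0 * y0 = y0 * x0 := h.pos c hc.1 _ hs.1.1 (by
    rw [R.sub_right, R.two c hc.1, h1]; norm_num) x0 hx0 y0 hy0
  have ex2 : x0 * x0 = 1 := h.X2 c hc.1 x0 hx0
  have ey2 : y0 * y0 = 1 := h.X2 _ hs.1.1 y0 hy0
  -- the action of `β`
  have b1 : β * x0 * β⁻¹ = x0 := by
    rw [h.pos b p.hb c hc.1 (by rw [R.symm, h1]; norm_num) β hβ x0 hx0, mul_inv_cancel_right]
  have b2 : β * y0 * β⁻¹ = x0 * y0 := by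
    have h2 : B b (c - b) = -1 := by rw [R.sub_right, R.symm, h1, R.two b p.hb]; norm_num
    have h3 := h.neg b p.hb _ hs.1.1 h2 β hβ y0 hy0
    rw [add_sub_cancel] at h3
    have h4 : β * y0 * β⁻¹ * y0⁻¹ ≠ 1 := by
      intro e
      have h5 : β * y0 = y0 * β := by
        calc β * y0 = (β * y0 * β⁻¹ * y0⁻¹) * (y0 * β) := by group
          _ = y0 * β := by rw [e, one_mul]
      rcases h.inj b p.hb _ hs.1.1 h2 β hβ y0 hy0 h5 with h6 | h6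
      · exact hβ1 h6
      · exact hy1 h6
    have h5 := p.two c hc.1 _ h3 x0 hx0 h4 hx1
    rw [← h5]; group
  have b3 : β' * x0 * β'⁻¹ = y0 * x0 := by
    have h2 : B (-b) c = -1 := by rw [R.neg_left, R.symm, h1]
    have h3 := h.neg _ hnb c hc.1 h2 β' hβ' x0 hx0
    rw [neg_add_eq_sub] at h3
    have h4 : β' * x0 * β'⁻¹ * x0⁻¹ ≠ 1 := by
      intro e
      have h5 : β' * x0 = x0 * β' := by
        calc β' * x0 = (β' * x0 * β'⁻¹ * x0⁻¹) * (x0 * β') := by group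
          _ = x0 * β' := by rw [e, one_mul]
      rcases h.inj _ hnb c hc.1 h2 β' hβ' x0 hx0 h5 with h6 | h6
      · exact hβ1' h6
      · exact hx1 h6
    have h5 := p.two _ hs.1.1 _ h3 y0 hy0 h4 hy1
    rw [← h5]; group
  have b4 : β' * y0 * β'⁻¹ = y0 := by
    rw [h.pos _ hnb _ hs.1.1 (by rw [R.neg_left, R.symm, hs.2]; norm_num) β' hβ' y0 hy0, mul_inv_cancel_right]
  have Eb1 : Em (X r) β x0 x0 := ⟨1, one_mem _, by rw [b1, mul_one]⟩
  have Eb2 : Em (X r) β y0 (x0 * y0) := ⟨1, one_mem _, by rw [b2, mul_one]⟩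
  have Eb3 : Em (X r) β' (x0 * y0) x0 := ⟨1, one_mem _, by
    calc β' * (x0 * y0) * β'⁻¹ = (β' * x0 * β'⁻¹) * (β' * y0 * β'⁻¹) := by group
      _ = x0 * (y0 * y0) := by rw [b3, b4, ← exy]; group
      _ = x0 * 1 := by rw [ey2]⟩
  have Eb4 : Em (X r) β (x0 * y0) y0 := ⟨1, one_mem _, by
    calc β * (x0 * y0) * β⁻¹ = (β * x0 * β⁻¹) * (β * y0 * β⁻¹) := by group
      _ = (x0 * x0) * y0 := by rw [b1, b2]; group
      _ = y0 * 1 := by rw [ex2, one_mul, mul_one]⟩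
  have Eb5 : Em (X r) β' y0 y0 := ⟨1, one_mem _, by rw [b4, mul_one]⟩
  -- `x0, y0, x0 y0 ∉ X r`
  have nx : ∀ w, w ∈ X c → w ≠ 1 → ∀ v ∈ X (c - b), w * v ∉ X r := by
    intro w hw hw1 v hv hwv
    have hrc := h.sub_mem1 hr hc
    obtain ⟨a, ha, ha1⟩ := h.ne _ hrc.1
    have haP := h.QS_le_PR hr subset_rfl (le_QS X r hrc ha)
    have h2 : w * v * a = a * (w * v) := h.XP hr hwv haP
    have h3 : v * a = a * v := h.comm1 hr hs.1 hrc (by
      intro e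
      have h4 : (c - b) + (r - c) = r - b := by abel
      rw [h4] at e
      have h5 : b = 0 := by simpa using e
      have h6 := R.two b p.hb
      rw [h5, R.zero_left] at h6
      omega) hv ha
    have h4 : w * a = a * w := by
      have h5 : w * a * v = a * w * v := by
        calc w * a * v = w * (v * a) := by rw [h3]; group
          _ = w * v * a := by group
          _ = a * w * v := by rw [h2]; group
      exact mul_right_cancel h5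
    have h5 : B c (r - c) = -1 := by rw [R.sub_right, hc.2, R.two c hc.1]; norm_num
    rcases h.inj c hc.1 _ hrc.1 h5 w hw a ha h4 with h6 | h6
    · exact hw1 h6
    · exact ha1 h6
  have ny : ∀ v ∈ X (c - b), v ≠ 1 → v ∉ X r := fun v hv hv1 hvr => hv1 (h.inf_eq hr hs.1 hv hvr)
  -- the first step
  have key : ∀ w ∈ QS X (Ph1 B Φ r) r, w ∉ X r → ∀ g, (∀ x ∈ X r, g⁻¹ * x * g ∈ X r) → g * w * g⁻¹ ∉ X r := by
    intro w hw hwr g hg hc
    apply hwr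
    have := hg _ hc
    have e : g⁻¹ * (g * w * g⁻¹) * g = w := by group
    rwa [e] at this
  obtain ⟨a1, ha1, E1⟩ : ∃ a ∈ X b ⊔ X (-b), Em (X r) (a * n) x0 x0 := by
    obtain ⟨x, hx, y, hy, z, hz, e⟩ := p.conj_pair h hr hnQ hnP hc h1 hx0
    have hne : n * x0 * n⁻¹ ∉ X r := key x0 (le_QS X r hc hx0) (fun hh => hx1 (h.inf_eq hr hc hx0 hh)) n hnX'
    by_cases hxx : x = 1
    · by_cases hyy : y = 1
      · exfalso; apply hne
        rw [e, hxx, hyy, one_mul, one_mul]; exact hz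
      · have hyy' := p.two _ hs.1.1 _ hy y0 hy0 hyy hy1
        refine ⟨β' * β, mul_mem (mem_sup_right hβ') (mem_sup_left hβ), ?_⟩
        have E0 : Em (X r) n x0 y0 := ⟨z, hz, by rw [e, hxx, hyy', one_mul]⟩
        rw [mul_assoc]
        exact (E0.comp nβ Eb2).comp nβ' Eb3
    · have hxx' := p.two _ hc.1 _ hx x0 hx0 hxx hx1
      by_cases hyy : y = 1
      · exact ⟨1, one_mem _, z, hz, by rw [one_mul, e, hxx', hyy, mul_one]⟩
      · have hyy' := p.two _ hs.1.1 _ hy y0 hy0 hyy hy1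
        refine ⟨β', mem_sup_right hβ', ?_⟩
        have E0 : Em (X r) n x0 (x0 * y0) := ⟨z, hz, by rw [e, hxx', hyy']⟩
        exact E0.comp nβ' Eb3
  -- the second step
  have hA : X b ⊔ X (-b) ≤ PR B Φ X r := p.A_le_PR h
  have hAP := p.A_comm h hr
  set m := a1 * n with hm
  have hmQ : ∀ q ∈ QS X (Ph1 B Φ r) r, m * q * m⁻¹ ∈ QS X (Ph1 B Φ r) r := fun q hq => by
    have := h.PQ hr (hA ha1) (hnQ q hq)
    have e : m * q * m⁻¹ = a1 * (n * q * n⁻¹) * a1⁻¹ := by rw [hm]; group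
    rwa [e]
  have hmX' : ∀ x ∈ X r, m⁻¹ * x * m ∈ X r := fun x hx => by
    have h2 := hnX' x hx
    have e : m⁻¹ * x * m = n⁻¹ * x * n := by
      calc m⁻¹ * x * m = n⁻¹ * a1⁻¹ * (x * a1) * n := by rw [hm]; group
        _ = n⁻¹ * x * n := by rw [h.XP hr hx (hA ha1)]; group
    rwa [e]
  have hmP : ∀ y ∈ P, m * y * m⁻¹ * y⁻¹ ∈ QS X (Ph1 B Φ r) r := fun y hy => by
    have e : m * y * m⁻¹ * y⁻¹ = (a1 * (n * y * n⁻¹ * y⁻¹) * a1⁻¹) * (a1 * y * a1⁻¹ * y⁻¹) := by rw [hm]; group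
    rw [e]
    exact mul_mem (h.PQ hr (hA ha1) (hnP y hy)) (hAP a1 ha1 y hy)
  have hbb : B (c - b) (-b) = 1 := by rw [R.neg_right, hs.2]; norm_num
  obtain ⟨y, hy, x, hx, z, hz, e⟩ := (p.neg R).conj_pair h hr hmQ hmP hs.1 hbb hy0
  have ecb : c - b - -b = c := by abel
  rw [ecb] at hx
  have hne : m * y0 * m⁻¹ ∉ X r := key y0 (le_QS X r hs.1 hy0) (ny y0 hy0 hy1) m hmX'
  have hne2 : m * (x0 * y0) * m⁻¹ ∉ X r := key _ (mul_mem (le_QS X r hc hx0) (le_QS X r hs.1 hy0))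
    (nx x0 hx0 hx1 y0 hy0) m hmX'
  by_cases hyy : y = 1
  · exfalso
    by_cases hxx : x = 1
    · apply hne
      rw [e, hxx, hyy, one_mul, one_mul]; exact hz
    · have hxx' := p.two _ hc.1 _ hx x0 hx0 hxx hx1
      apply hne2
      obtain ⟨z', hz', e'⟩ := E1
      have e2 : m * (x0 * y0) * m⁻¹ = z' * z := by
        calc m * (x0 * y0) * m⁻¹ = (m * x0 * m⁻¹) * (m * y0 * m⁻¹) := by group
          _ = x0 * z' * (x0 * z) := by rw [e', e, hyy, hxx', one_mul]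
          _ = x0 * (z' * x0) * z := by group
          _ = (x0 * x0) * z' * z := by rw [cx z' hz']; group
          _ = z' * z := by rw [ex2, one_mul]
      rw [e2]; exact mul_mem hz' hz
  · have hyy' := p.two _ hs.1.1 _ hy y0 hy0 hyy hy1
    by_cases hxx : x = 1
    · exact ⟨a1, ha1, E1, z, hz, by rw [e, hxx, hyy', mul_one]⟩
    · have hxx' := p.two _ hc.1 _ hx x0 hx0 hxx hx1
      refine ⟨β * a1, mul_mem (mem_sup_left hβ) ha1, ?_, ?_⟩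
      · rw [mul_assoc]; exact E1.comp nβ Eb1
      · rw [mul_assoc]
        have E2 : Em (X r) m y0 (x0 * y0) := ⟨z, hz, by rw [e, hxx', hyy', exy]⟩
        exact E2.comp nβ Eb4

/-- **An element trivial on `P/Q` agrees with an element of `⟨X b, X (-b)⟩` on `Q/X`.** -/
theorem exists_A (h : RG B Φ X) (hr : r ∈ Φ) (hPP : P ≤ PR B Φ X r) (p : PA B Φ X r b P) {t : G} {H : Subgroup G}
    (S : Setup t (X r) (QS X (Ph1 B Φ r) r) P H) (tA : ∀ a ∈ X b ⊔ X (-b), t * a = a * t) {n : G} (hn : n ∈ S.C4) :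
    ∃ a ∈ X b ⊔ X (-b), a * n ∈ S.D := by
  have R := h.roots
  -- a root of `Ph1`
  obtain ⟨c, hc, h1⟩ : ∃ c ∈ Ph1 B Φ r, B c b = 1 := by
    obtain ⟨c, hc, hc1⟩ := h.one r hr
    rcases p.pm c ⟨hc, hc1⟩ with h1 | h1
    · exact ⟨c, ⟨hc, hc1⟩, h1⟩
    · exact ⟨_, p.add_mem R ⟨hc, hc1⟩ h1⟩
  have hs := p.sub_mem R hc h1
  obtain ⟨x0, hx0, hx1⟩ := h.ne c hc.1
  obtain ⟨y0, hy0, hy1⟩ := h.ne _ hs.1.1
  obtain ⟨β, hβ, hβ1⟩ := h.ne b p.hb
  obtain ⟨β', hβ', hβ1'⟩ := h.ne _ (R.neg_mem b p.hb)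
  obtain ⟨a, ha, ⟨z, hz, E1⟩, z', hz', E2⟩ := p.exists_pair h hr hn.1.2.1 (fun q hq => S.N_Q hn.1 hq) hn.2 hn.1.1 hc h1
    hx0 hx1 hy0 hy1 hβ hβ1 hβ' hβ1'
  have haP := p.A_le_PR h ha
  have haC : a ∈ S.C4 := by
    refine ⟨⟨fun x hx => ?_, fun x hx => ?_, ?_⟩, p.A_comm h hr a ha⟩
    · rw [← h.XP hr hx haP, mul_inv_cancel_right]; exact hx
    · rw [mul_assoc, h.XP hr hx haP, inv_mul_cancel_left]; exact hx
    · rw [← tA a ha, mul_inv_cancel_right, S.tt]; exact one_mem _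
  have hm := mul_mem haC hn
  refine ⟨a, ha, hm, ?_⟩
  set m := a * n with hmd
  have hmX := hm.1.1
  have hc1 : ∀ u ∈ X c, m * u * m⁻¹ * u⁻¹ ∈ X r := by
    intro u hu
    by_cases hu1 : u = 1
    · rw [hu1, mul_one, mul_inv_cancel, inv_one, mul_one]; exact one_mem _
    · rw [p.two c hc.1 u hu x0 hx0 hu1 hx1, E1, ← h.XP hr hz (h.QS_le_PR hr subset_rfl (le_QS X r hc hx0)),
        mul_inv_cancel_right]
      exact hz
  have hc2 : ∀ u ∈ X (c - b), m * u * m⁻¹ * u⁻¹ ∈ X r := by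
    intro u hu
    by_cases hu1 : u = 1
    · rw [hu1, mul_one, mul_inv_cancel, inv_one, mul_one]; exact one_mem _
    · rw [p.two _ hs.1.1 u hu y0 hy0 hu1 hy1, E2, ← h.XP hr hz' (h.QS_le_PR hr subset_rfl (le_QS X r hs.1 hy0)),
        mul_inv_cancel_right]
      exact hz'
  have hall : ∀ c' ∈ Ph1 B Φ r, ∀ u ∈ X c', m * u * m⁻¹ * u⁻¹ ∈ X r := by
    intro c' hc'
    rcases p.pm c' hc' with h2 | h2
    · exact p.conn h hr hPP hmX hm.2 hc hc' h1 h2 hc1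
    · exact (p.neg R).conn h hr hPP hmX hm.2 hs.1 hc' (by rw [R.neg_right, hs.2]; norm_num)
        (by rw [R.neg_right, h2]; norm_num) hc2
  let D : Subgroup G :=
    { carrier := {q | q ∈ QS X (Ph1 B Φ r) r ∧ m * q * m⁻¹ * q⁻¹ ∈ X r}
      one_mem' := ⟨one_mem _, by rw [mul_one, mul_inv_cancel, inv_one, mul_one]; exact one_mem _⟩
      mul_mem' := by
        rintro a b ⟨ha, ha2⟩ ⟨hb, hb2⟩
        refine ⟨mul_mem ha hb, ?_⟩
        have e : m * (a * b) * m⁻¹ * (a * b)⁻¹ = (m * a * m⁻¹ * a⁻¹) * (a * (m * b * m⁻¹ * b⁻¹) * a⁻¹) := by group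
        rw [e, ← h.XP hr hb2 (h.QS_le_PR hr subset_rfl ha), mul_inv_cancel_right]
        exact mul_mem ha2 hb2
      inv_mem' := by
        rintro a ⟨ha, ha2⟩
        refine ⟨inv_mem ha, ?_⟩
        have e : m * a⁻¹ * m⁻¹ * a⁻¹⁻¹ = a⁻¹ * ((m * a * m⁻¹ * a⁻¹)⁻¹ * a) := by group
        rw [e, h.XP hr (inv_mem ha2) (h.QS_le_PR hr subset_rfl ha), inv_mul_cancel_left]
        exact inv_mem ha2 }
  have hle : QS X (Ph1 B Φ r) r ≤ D := by
    refine QS_le (fun x hx => ⟨X_le_QS X _ r hx, mul_mem (hmX x hx) (inv_mem hx)⟩) fun c' hc' x hx =>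
      ⟨le_QS X r hc' hx, hall c' hc' x hx⟩
  exact fun q hq => (hle hq).2

end PA

end Cfsg.Agent.OddHalf.D7Ex

end

-- merged: Cfsg.Agent.OddHalf.D7Ex.DBase
section

/-!
# `q = 2`, an isolated root `b` of `r^⊥`: the doubled root group commuting with `P = ⟨X d : (d, r) = (d, b) = 0⟩ Q`
(helper875)

* `KR.exists_iso` : abstract form;
* `exists_iso` : from a Sylow 2-subgroup of `C(t)` and an element of its normaliser (`Tri.exists_inner`).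
-/

set_option autoImplicit false
set_option linter.style.haveILetI false
set_option linter.unusedSectionVars false
set_option linter.unusedVariables false

namespace Cfsg.Agent.OddHalf.D7Ex

open Subgroup Cfsg.Agent.OddHalf.SL.Defs
open scoped commutatorElement

namespace KR

variable {L : Type*} [AddCommGroup L] {G : Type*} [Group G]
  {t : G} {B : L → L → ℤ} {Φ : Set L} {X : L → Subgroup G} {r : L} {P T : Subgroup G}

/-- `X r` commutes with `t` and with `⟨X b, X (-b)⟩` -/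
theorem tA (K : KR t B Φ X r P T) {b : L} (p : PA B Φ X r b P) : ∀ a ∈ X b ⊔ X (-b), t * a = a * t := by
  have hle : X b ⊔ X (-b) ≤ centralizer ({t} : Set G) := sup_le
    (fun x hx => mem_centralizer_singleton_iff.2 (K.tX b p.hb x hx).symm)
    fun x hx => mem_centralizer_singleton_iff.2 (K.tX _ (K.rg.roots.neg_mem b p.hb) x hx).symm
  exact fun a ha => (mem_centralizer_singleton_iff.1 (hle ha)).symm

theorem nice_of (K : KR t B Φ X r P T) [Finite G] {k : G} (kt : k * t = t * k)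
    (kX : ∀ x ∈ X r, k * x * k⁻¹ ∈ X r) : Nice t (X r) P 1 k := by
  have ht : t * (k * t * k⁻¹) ∈ X r := by
    rw [kt, mul_inv_cancel_right, K.tt]; exact one_mem _
  obtain ⟨kX', ht'⟩ := K.inv_norm kX ht
  refine ⟨kt, fun x => ⟨kX x, fun hx => ?_⟩, fun p => ⟨K.nP0 k kX ht p, fun hp => ?_⟩, ?_⟩
  · have := kX' _ hx
    have e : k⁻¹ * (k * x * k⁻¹) * k⁻¹⁻¹ = x := by group
    rwa [e] at this
  · have := K.nP0 k⁻¹ kX' ht' _ hp
    have e : k⁻¹ * (k * p * k⁻¹) * k⁻¹⁻¹ = p := by group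
    rwa [e] at this
  · rw [mul_one, mul_inv_cancel, inv_one, mul_one]; exact one_mem _

/-- **The doubled root group, `q = 2`, `b` isolated in `r^⊥`**: `n` acts on `P/Q` as an element of `P`. -/
theorem exists_iso (K : KR t B Φ X r P T) {b : L} (pa : PA B Φ X r b P) [Finite G] {z : G}
    (hz : ∀ x ∈ X r, x = 1 ∨ x = z)
    {n : G} (hX : ∀ x ∈ X r, n * x * n⁻¹ ∈ X r) (ht : t * (n * t * n⁻¹) ∈ X r) (hnt : n * t * n⁻¹ ≠ t)
    {p0 : G} (hp0 : p0 ∈ P) (hin : ∀ p ∈ P, n * p * n⁻¹ * (p0 * p * p0⁻¹)⁻¹ ∈ QS X (Ph1 B Φ r) r) :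
    ∃ W, IsDbl t (X r) P W ∧ (∀ w ∈ W, w * w = 1) ∧
      ∀ k, k * t = t * k → (∀ x ∈ X r, k * x * k⁻¹ ∈ X r) → ∀ w ∈ W, k * w * k⁻¹ ∈ W := by
  have S := K.setup
  have hn : n ∈ S.N := by
    refine ⟨hX, fun x hx => ?_, ht⟩
    have := (K.inv_norm hX ht).1 x hx
    rwa [inv_inv] at this
  have hp0t : t * p0 = p0 * t := S.tP p0 hp0
  have hp0N : p0 ∈ S.N := by
    refine ⟨fun x hx => ?_, fun x hx => ?_, ?_⟩
    · rw [← S.XP x hx p0 hp0, mul_inv_cancel_right]; exact hx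
    · rw [mul_assoc, S.XP x hx p0 hp0, inv_mul_cancel_left]; exact hx
    · rw [← hp0t, mul_inv_cancel_right, S.tt]; exact one_mem _
  -- `p0⁻¹ n` is trivial on `P/Q`
  have hc : p0⁻¹ * n ∈ S.C4 := by
    refine ⟨mul_mem (inv_mem hp0N) hn, fun p hp => ?_⟩
    have h1 := hin p hp
    have h2 := S.PQ p0⁻¹ (inv_mem hp0) _ h1
    have e : p0⁻¹ * n * p * (p0⁻¹ * n)⁻¹ * p⁻¹ = p0⁻¹ * (n * p * n⁻¹ * (p0 * p * p0⁻¹)⁻¹) * p0⁻¹⁻¹ := by group
    rwa [e]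
  obtain ⟨a, ha, hD⟩ := pa.exists_A K.rg K.hr K.pg.PPR S (K.tA pa) hc
  obtain ⟨y, hy, hyt⟩ := S.exists_cent hD
  have haPR := pa.A_le_PR K.rg ha
  -- `y` moves `t` to `n t n⁻¹`
  have e1 : a * (p0⁻¹ * n) * t * (a * (p0⁻¹ * n))⁻¹ = n * t * n⁻¹ := by
    have hx : t * (n * t * n⁻¹) ∈ X r := ht
    have e2 : n * t * n⁻¹ = t * (t * (n * t * n⁻¹)) := by rw [← mul_assoc, K.tt, one_mul]
    have c1 : (n * t * n⁻¹) * p0 = p0 * (n * t * n⁻¹) := by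
      rw [e2]
      calc t * (t * (n * t * n⁻¹)) * p0 = t * ((t * (n * t * n⁻¹)) * p0) := by group
        _ = (t * p0) * (t * (n * t * n⁻¹)) := by rw [S.XP _ hx p0 hp0]; group
        _ = _ := by rw [hp0t]; group
    have c2 : (n * t * n⁻¹) * a = a * (n * t * n⁻¹) := by
      rw [e2]
      calc t * (t * (n * t * n⁻¹)) * a = t * ((t * (n * t * n⁻¹)) * a) := by group
        _ = (t * a) * (t * (n * t * n⁻¹)) := by rw [K.rg.XP K.hr hx haPR]; group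
        _ = _ := by rw [K.tA pa a ha]; group
    calc a * (p0⁻¹ * n) * t * (a * (p0⁻¹ * n))⁻¹ = a * p0⁻¹ * ((n * t * n⁻¹) * p0) * a⁻¹ := by group
      _ = a * (n * t * n⁻¹) * a⁻¹ := by rw [c1]; group
      _ = n * t * n⁻¹ := by rw [← c2, mul_inv_cancel_right]
  have hnx : t * (n * t * n⁻¹) ≠ 1 := by
    intro e
    apply hnt
    have : t * (n * t * n⁻¹) = t * t := by rw [e, K.tt]
    exact mul_left_cancel this
  have hzn : t * (n * t * n⁻¹) = z := (hz _ ht).resolve_left hnx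
  have C : Cent t (X r) P := K.cent fun x hx => by
    rcases hz x hx with h1 | h1
    · exact ⟨1, fun p _ => by rw [one_mul, mul_one], by rw [h1]; group⟩
    · refine ⟨y, hy, ?_⟩
      rw [hyt, e1, h1, ← hzn, ← mul_assoc, K.tt, one_mul]
  exact ⟨C.Wtwo hz, C.isDbl_two hz, fun w hw => hw.2.1, fun k kt kX w hw => C.nice_two hz (K.nice_of kt kX) hw⟩

end KR

end Cfsg.Agent.OddHalf.D7Ex

end

-- merged: Cfsg.Agent.OddHalf.D7Ex.NdI
section

/-!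
# A simple root `o` isolated in the roots orthogonal to the highest root (helper875)

* `NdI cs h f j κ r o` : `Nd` and one more node `o`, adjacent to `j` only;
* `pa` : `PA` for `P₀ = Lv ⊔ Qr`; `hrest` : the hypothesis of `Tri.exists_inner`; `isoRt` : `DLastOf.IsoRt`.
-/

set_option autoImplicit false
set_option linter.unusedSectionVars false
set_option linter.dupNamespace false

namespace Cfsg.Agent.OddHalf.D7Ex.NdI

open Cfsg.Agent.OddHalf.SL Cfsg.Agent.KFacts CoxeterSystem Cfsg.Agent.ChevalleyStructure.CoxeterGeom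
  Cfsg.Agent.Tits.Roots Cfsg.Agent.Tits.Core
  Cfsg.Agent.Tits.RootComb Cfsg.Agent.Nodes.Comb Cfsg.Agent.Nodes.Reps Cfsg.Agent.Nodes.BNOf
  Cfsg.Agent.Nodes.Bruhat Cfsg.Agent.Nodes.Coroot Cfsg.Agent.OddHalf.SL.Index Cfsg.Agent.OddHalf.SL.OfRGD
  Cfsg.Agent.Nodes.StabComb Cfsg.Agent.Nodes.LeviDec Cfsg.Agent.Nodes.Sub Cfsg.Agent.Nodes.SubComb
  Cfsg.Agent.OddHalf.D7Ex.KTwo Cfsg.Agent.OddHalf.D7Ex.TriComb Cfsg.Agent.OddHalf.D7Ex.TriAux
  Cfsg.Agent.OddHalf.D7Ex.TriGrp Cfsg.Agent.OddHalf.D7Ex.TriFix Cfsg.Agent.OddHalf.D7Ex.TriLevi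
  Cfsg.Agent.OddHalf.D7Ex.TriE
  Cfsg.Agent.OddHalf.D7Ex.KData Cfsg.Agent.KFacts.SLRow.Def

variable {I J W G : Type*} [Fintype I] [DecidableEq I] [Fintype J] [DecidableEq J] [Group W] [Group G]
  {M : CoxeterMatrix I} {cs : CoxeterSystem M W} {A : I → I → ℤ} {h : IsCartan M A} {T : Subgroup G} {n : I → G}
  {X : (I → ℤ) → Subgroup G} {K : Subgroup G} {t : G}

/-- the node data with one isolated node `o` -/
structure NdI (cs : CoxeterSystem M W) (h : IsCartan M A) (f : J ↪ I) (j : I) (κ : J) (r : I → ℤ) (o : I) : Prop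
    extends Nd cs h f j κ r where
  oj : o ≠ j
  of : ∀ i, f i ≠ o
  full : ∀ i, i = j ∨ i = o ∨ ∃ k, f k = i
  jo : Bf A (sr o) (sr j) = -1

variable {f : J ↪ I} {j : I} {κ : J} {r : I → ℤ} {o : I}

/-- the hypothesis of `Tri.exists_inner` -/
theorem NdI.hrest (N : NdI cs h f j κ r o) :
    ∀ b b', b ≠ j → (∀ i, f i ≠ b) → b' ≠ j → (∀ i, f i ≠ b') → b = b' := by
  intro b b' h1 h2 h3 h4
  have key : ∀ b, b ≠ j → (∀ i, f i ≠ b) → b = o := by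
    intro b h1 h2
    rcases N.full b with h | h | ⟨k, h⟩
    · exact absurd h h1
    · exact h
    · exact absurd h (h2 k)
  rw [key b h1 h2, key b' h3 h4]

theorem NdI.fo (N : NdI cs h f j κ r o) (i : J) : Bf A (sr o) (sr (f i)) = 0 := N.rest o N.oj N.of i

variable [Finite W] (h4 : ∀ i j, M i j ≠ 4) (h6 : ∀ i j, M i j ≠ 6) (N : NdI cs h f j κ r o)

include h4 h6 N

/-- `(a, o) = 2 a_o - a_j` -/
theorem bf_o (a : I → ℤ) : Bf A a (sr o) = 2 * a o - a j := by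
  have hR := roots cs h h4 h6
  rw [hR.symm, bf_expand, ← Finset.add_sum_erase _ _ (Finset.mem_univ o),
    ← Finset.add_sum_erase _ _ (Finset.mem_erase.2 ⟨N.oj.symm, Finset.mem_univ j⟩), N.jo,
    hR.two _ (isRoot_sr cs h o), Finset.sum_eq_zero]
  · ring
  · intro i hi
    rw [Finset.mem_erase, Finset.mem_erase] at hi
    rcases N.full i with h1 | h1 | ⟨k, rfl⟩
    · exact absurd h1 hi.1
    · exact absurd h1 hi.2.1
    · rw [N.fo k, mul_zero]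

theorem br : Bf A (sr o) r = 0 := N.di o N.oj

/-- `o` is isolated -/
theorem iso {d : I → ℤ} (h0 : Bf A d r = 0) : Bf A d (sr o) ≠ 1 := by
  rw [bf_r h4 h6 N.toNd] at h0
  rw [bf_o h4 h6 N, h0]
  omega

theorem pm {c : I → ℤ} (hc : c ∈ Ph1 (Bf A) {x | IsRoot cs h x} r) : Bf A c (sr o) = 1 ∨ Bf A c (sr o) = -1 := by
  have hR := roots cs h h4 h6
  have h1 := ((mem_Ph1 h4 h6 N.toNd).1 hc).2
  have h2 := hR.le _ hc.1 _ (isRoot_sr cs h o)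
  have h3 := hR.ge hc.1 (isRoot_sr cs h o)
  rw [bf_o h4 h6 N, h1] at h2 h3 ⊢
  omega

/-- the roots orthogonal to `r` and `o` -/
theorem mem_RootsJ {a : I → ℤ} (ha : IsRoot cs h a) (h0 : Bf A a r = 0) (h1 : Bf A a (sr o) = 0) :
    a ∈ RootsJ cs h (Set.range f) := by
  rw [bf_r h4 h6 N.toNd] at h0
  rw [bf_o h4 h6 N, h0] at h1
  refine ⟨ha, fun k hk => ?_⟩
  rcases N.full k with h2 | h2 | h2
  · rw [h2, h0]
  · rw [h2]; omega
  · exact absurd h2 hk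

theorem RootsJ_o {a : I → ℤ} (ha : a ∈ RootsJ cs h (Set.range f)) : Bf A a (sr o) = 0 := by
  rw [bf_o h4 h6 N, ha.2 j (by rintro ⟨i, hi⟩; exact N.fj i hi), ha.2 o (by rintro ⟨i, hi⟩; exact N.of i hi)]
  norm_num

/-- every `c ∈ Ph1` has a neighbour in `J` -/
theorem ex {c : I → ℤ} (hc : c ∈ Ph1 (Bf A) {x | IsRoot cs h x} r) :
    ∃ d ∈ RootsJ cs h (Set.range f), Bf A c d = 1 := by
  have hR := roots cs h h4 h6
  have hJ : ∀ k, sr (f k) ∈ RootsJ cs h (Set.range f) := fun k => PosJ_subset _ (sr_mem_PosJ ⟨k, rfl⟩)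
  by_cases h1 : c = sr j
  · refine ⟨-sr (f κ), RootsJ.neg (hJ κ), ?_⟩
    rw [h1, hR.neg_right, hR.symm, N.kj]; norm_num
  obtain ⟨i, hi, h2⟩ := exists_one h4 h6 N.toNd hc h1
  rcases N.full i with h3 | h3 | ⟨k, rfl⟩
  · exact absurd h3 hi
  · rw [h3] at h2
    have hcb : c - sr o ∈ Ph1 (Bf A) {x | IsRoot cs h x} r :=
      ⟨hR.sub_mem hc.1 (isRoot_sr cs h o) h2, by rw [hR.sub_left, hc.2, br h4 h6 N]; norm_num⟩
    have h5 : Bf A (c - sr o) (sr o) = -1 := by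
      rw [hR.sub_left, h2, hR.two _ (isRoot_sr cs h o)]; norm_num
    by_cases h7 : c - sr o = sr j
    · refine ⟨-sr (f κ), RootsJ.neg (hJ κ), ?_⟩
      have h8 : c = sr j + sr o := sub_eq_iff_eq_add.1 h7
      rw [h8, hR.neg_right, hR.add_left, hR.symm, N.kj, N.fo]; norm_num
    · obtain ⟨i', hi', h8⟩ := exists_one h4 h6 N.toNd hcb h7
      rcases N.full i' with h9 | h9 | ⟨k, rfl⟩
      · exact absurd h9 hi'
      · rw [h9, h5] at h8
        exact absurd h8 (by norm_num)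
      · refine ⟨sr (f k), hJ k, ?_⟩
        rw [hR.sub_left, N.fo, sub_zero] at h8
        exact h8
  · exact ⟨sr (f k), hJ k, h2⟩

/-- the roots orthogonal to `r` -/
theorem gd (hnb : ∀ i, ∃ i', Bf A (sr (f i)) (sr (f i')) = -1) {a : I → ℤ} (ha : IsRoot cs h a) (h0 : Bf A a r = 0) :
    a = sr o ∨ a = -sr o ∨ ∃ d, IsRoot cs h d ∧ Bf A d r = 0 ∧ Bf A a d = 1 := by
  have hR := roots cs h h4 h6
  by_cases h1 : Bf A a (sr o) = 0
  · right; right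
    obtain ⟨d, hd, h2⟩ := exists_nb (f := f) h4 h6 hnb (mem_RootsJ h4 h6 N ha h0 h1)
    exact ⟨d, hd.1, RootsJ_zero h4 h6 N.toNd hd, h2⟩
  · have h2 := hR.le _ ha _ (isRoot_sr cs h o)
    have h3 := hR.ge ha (isRoot_sr cs h o)
    have h0' := h0
    rw [bf_r h4 h6 N.toNd] at h0
    have h5 := bf_o h4 h6 N a
    rw [h0] at h5
    rcases (show Bf A a (sr o) = 2 ∨ Bf A a (sr o) = -2 by omega) with h6' | h6'
    · left; exact hR.eq _ ha _ (isRoot_sr cs h o) h6'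
    · right; left; exact hR.eq_neg ha (isRoot_sr cs h o) h6'

/-- `DLastOf.IsoRt` -/
theorem isoRt (hnb : ∀ i, ∃ i', Bf A (sr (f i)) (sr (f i')) = -1) :
    ∃ s g, DLastOf.IsoRt cs h r (sr o) s g := by
  have hR := roots cs h h4 h6
  -- a root of `Ph1` with `(s, b) = 1`
  obtain ⟨s, hs, hsb⟩ : ∃ s ∈ Ph1 (Bf A) {x | IsRoot cs h x} r, Bf A s (sr o) = 1 := by
    have hj : sr j ∈ Ph1 (Bf A) {x | IsRoot cs h x} r := ⟨isRoot_sr cs h j, N.dj⟩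
    have h1 : Bf A (sr j) (sr o) = -1 := by rw [hR.symm, N.jo]
    refine ⟨sr j + sr o, ⟨hR.add _ hj.1 _ (isRoot_sr cs h o) h1, ?_⟩, ?_⟩
    · rw [hR.add_left, hj.2, br h4 h6 N]; norm_num
    · rw [hR.add_left, h1, hR.two _ (isRoot_sr cs h o)]; norm_num
  obtain ⟨d, hd, h1⟩ := ex h4 h6 N hs
  have hdr := RootsJ_zero h4 h6 N.toNd hd
  have hdb := RootsJ_o h4 h6 N hd
  refine ⟨s, s - d, isRoot_sr cs h o, br h4 h6 N, fun d _ h0 => iso h4 h6 N h0, fun a ha h0 => gd h4 h6 N hnb ha h0,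
    hs.1, hR.sub_mem hs.1 hd.1 h1, hs.2, hsb, ?_, ?_, ?_⟩
  · rw [hR.sub_left, hs.2, hdr]; norm_num
  · rw [hR.sub_left, hsb, hdb]; norm_num
  · rw [hR.sub_right, hR.two _ hs.1, h1]; norm_num

omit h4 h6 in
/-- **`PA` for `P₀ = Lv ⊔ Qr`.** -/
theorem pa [Finite G] (D : Datum K 2 cs h T n X) :
    PA (Bf A) {x | IsRoot cs h x} X r (sr o) (Lv cs h X f ⊔ Qr cs h X r) where
  hb := isRoot_sr cs h o
  br := br D.h4 D.h6 N
  pm := fun _ hc => pm D.h4 D.h6 N hc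
  ld := fun _ hd h1 h2 => (RGD.le_Sup (mem_RootsJ D.h4 D.h6 N hd h1 h2)).trans le_sup_left
  lt := by
    refine sup_le_sup_right (RGD.Sup_le fun d hd => ?_) _
    exact le_iSup₂ (f := fun d (_ : d ∈ {d | d ∈ {x | IsRoot cs h x} ∧ Bf A d r = 0 ∧ Bf A d (sr o) = 0}) => X d) d
      ⟨hd.1, RootsJ_zero D.h4 D.h6 N.toNd hd, RootsJ_o D.h4 D.h6 N hd⟩
  ex := fun _ hc => by
    obtain ⟨d, hd, h1⟩ := ex D.h4 D.h6 N hc
    exact ⟨d, hd.1, RootsJ_zero D.h4 D.h6 N.toNd hd, RootsJ_o D.h4 D.h6 N hd, h1⟩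
  two := fun _ ha _ hx _ hy hx1 hy1 => eq_of_ne D ha hx hy hx1 hy1

end Cfsg.Agent.OddHalf.D7Ex.NdI

end

-- merged: Cfsg.Agent.OddHalf.D7Ex.DBaseOf
section

/-!
# `q = 2`, an isolated node `o`: `BaseG` at the highest root (helper875)

**`exists_baseG`** : from `KR` for `P₀ = Lv ⊔ Qr`, a Sylow `2`-subgroup `S` of `C(t)` and `m ∈ N(S)`, `m t m⁻¹ = t z`.
-/

set_option autoImplicit false
set_option linter.unusedSectionVars false

namespace Cfsg.Agent.OddHalf.D7Ex.DBaseOf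

open Cfsg.Agent.OddHalf.SL Cfsg.Agent.KFacts CoxeterSystem Cfsg.Agent.ChevalleyStructure.CoxeterGeom
  Cfsg.Agent.Tits.Roots Cfsg.Agent.Tits.Core
  Cfsg.Agent.Tits.RootComb Cfsg.Agent.Nodes.Comb Cfsg.Agent.Nodes.Reps Cfsg.Agent.Nodes.BNOf
  Cfsg.Agent.Nodes.Bruhat Cfsg.Agent.Nodes.Coroot Cfsg.Agent.OddHalf.SL.Index Cfsg.Agent.OddHalf.SL.OfRGD
  Cfsg.Agent.Nodes.StabComb Cfsg.Agent.Nodes.LeviDec Cfsg.Agent.Nodes.Sub Cfsg.Agent.Nodes.SubComb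
  Cfsg.Agent.OddHalf.D7Ex.KTwo Cfsg.Agent.OddHalf.D7Ex.TriComb Cfsg.Agent.OddHalf.D7Ex.TriAux
  Cfsg.Agent.OddHalf.D7Ex.TriGrp Cfsg.Agent.OddHalf.D7Ex.TriFix Cfsg.Agent.OddHalf.D7Ex.TriLevi
  Cfsg.Agent.OddHalf.D7Ex.Tri Cfsg.Agent.OddHalf.D7Ex.TriE Cfsg.Agent.OddHalf.SL.OfDatum
  Cfsg.Agent.KFacts.RgdCent Cfsg.Agent.KFacts.RgdPar Cfsg.Agent.KFacts.RgdTI
  Cfsg.Agent.OddHalf.D7Ex.KData Cfsg.Agent.KFacts.SLRow.Def Cfsg.Agent.OddHalf.D7Ex.NdI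

variable {I J W G : Type*} [Fintype I] [DecidableEq I] [Fintype J] [DecidableEq J] [Group W] [Group G]
  {M : CoxeterMatrix I} {cs : CoxeterSystem M W} {A : I → I → ℤ} {h : IsCartan M A} {T : Subgroup G} {n : I → G}
  {X : (I → ℤ) → Subgroup G} {K : Subgroup G} {t : G}

variable [Finite W] [Finite G] {f : J ↪ I} {j : I} {κ : J} {r : I → ℤ} {o : I} (D : Datum K 2 cs h T n X)

include D

/-- the root groups of the good roots lie in `P₀` -/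
theorem le_of_gd (N : NdI cs h f j κ r o) {a : I → ℤ} (ha : IsRoot cs h a)
    (hg : DLast.Gd (Bf A) {x | IsRoot cs h x} a r) : X a ≤ Lv cs h X f ⊔ Qr cs h X r := by
  have hR := roots cs h D.h4 D.h6
  rcases hg with h1 | ⟨h0, d, hd, hdr, had⟩
  · have h2 := hR.le a ha r N.hr
    rcases (show Bf A a r = 1 ∨ Bf A a r = 2 by omega) with h3 | h3
    · exact (le_QS X r (show a ∈ Ph1 (Bf A) {x | IsRoot cs h x} r from ⟨ha, h3⟩)).trans le_sup_right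
    · rw [hR.eq a ha r N.hr h3]
      exact (X_le_QS X _ r).trans le_sup_right
  · refine (pa N D).ld a ha h0 ?_
    have i1 := iso D.h4 D.h6 N h0
    have i2 := iso D.h4 D.h6 N (d := -a) (by rw [hR.neg_left, h0, neg_zero])
    rw [hR.neg_left] at i2
    have h2 := hR.le a ha _ (isRoot_sr cs h o)
    have h3 := hR.ge ha (isRoot_sr cs h o)
    rcases (show Bf A a (sr o) = 0 ∨ Bf A a (sr o) = 2 ∨ Bf A a (sr o) = -2 by omega) with h4 | h4 | h4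
    · exact h4
    · exfalso
      rw [hR.eq a ha _ (isRoot_sr cs h o) h4, hR.symm] at had
      exact iso D.h4 D.h6 N hdr had
    · exfalso
      rw [hR.eq_neg ha (isRoot_sr cs h o) h4, hR.symm, hR.neg_right] at had
      exact iso D.h4 D.h6 N (d := -d) (by rw [hR.neg_left, hdr, neg_zero]) (by rw [hR.neg_left, had])

/-- **`BaseG` at the highest root.** -/
theorem exists_baseG (C : Fl t K) (N : NdI cs h f j κ r o)
    (HK : KR t (Bf A) {x | IsRoot cs h x} X r (Lv cs h X f ⊔ Qr cs h X r) T)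
    (haut : ∀ σ τ : Equiv.Perm J, (∀ i k, M (f (σ i)) (f (σ k)) = M (f i) (f k)) → σ κ = κ →
      (∀ i k, M (f (τ i)) (f (τ k)) = M (f i) (f k)) → τ κ = κ → σ ≠ 1 → τ ≠ 1 → σ = τ)
    {z : G} (hz : z ∈ X r) (hz1 : z ≠ 1) {S : Subgroup G} {m : G}
    (Y : Syl K (RGD.Sup X (RGD.Pos cs h)) t z S m) : ∃ V, DLastOf.BaseG D.rgd t r V := by
  have hR := roots cs h D.h4 D.h6
  obtain ⟨c, ct, cz, u, hu, hl⟩ := exists_inner D C N.toNd hz hz1 HK rfl N.hrest haut Y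
  have hc : Gd t z c := ⟨cz, Or.inr ct⟩
  have hzz : ∀ x ∈ X r, x = 1 ∨ x = z := by
    intro x hx
    by_cases hx1 : x = 1
    · exact Or.inl hx1
    · exact Or.inr (eq_of_ne D N.hr hx hz hx1 hz1)
  obtain ⟨V, O, Vsq, Vn⟩ := HK.exists_iso (pa N D) hzz (Gd.gX D hz hz1 N.hr hc) (Gd.gt HK hz hc)
    (by rw [ct]; intro e; exact hz1 (mul_eq_left.1 e)) (p0 := u) (Subgroup.mem_sup_left (Uv_le_Lv hu))
    (fun p hp => hin D N.toNd hz hz1 HK hc (Uv_le_Lv hu) hl p hp)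
  have hN : ∀ w k, Rp cs D.rgd.nsys w k → k ∈ K := by
    intro w k hk
    rw [← D.GG_eq]
    exact NN_le_GG D.rgd ⟨_, hk⟩
  refine ⟨V, N.hr, O.XW, Vsq, O.brk, O.cent, O.surj, ?_, ?_, ?_, fun w k hk => C.Kt k (hN w k hk)⟩
  · intro a ha hg w hw x hx
    exact O.WP w hw x (le_of_gd D N ha hg hx)
  · intro a ha h0 x hx v hv
    refine Vn x (C.Kt x (D.XK ha hx)).symm (fun y hy => ?_) v hv
    rw [(rg D).pos a ha r N.hr (by rw [h0]) x hx y hy, mul_inv_cancel_right]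
    exact hy
  · intro w k hk hwr v hv
    refine Vn k (C.Kt k (hN w k hk)).symm (fun y hy => ?_) v hv
    have h1 := D.rgd.conj_mem hk N.hr hy
    rwa [hwr] at h1

end Cfsg.Agent.OddHalf.D7Ex.DBaseOf

end

-- merged: Cfsg.Agent.OddHalf.D7.RowD
section

/-!
# `ExTwo` for a diagram with one isolated node (helper875; `q = 2`: `Tri`, `KTwo` of helper57, `DLast`, `KRD` of
helper657)

* `exTwo_of` : `RowSL.ExTwo M` from the Dynkin facts.
-/

set_option autoImplicit false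
set_option linter.unusedSectionVars false

namespace Cfsg.Agent.OddHalf.D7.RowD

open Cfsg
open CoxeterSystem Cfsg.Agent.ChevalleyStructure.CoxeterGeom Cfsg.Agent.Tits.Roots Cfsg.Agent.Tits.Core
  Cfsg.Agent.Nodes.Reps Cfsg.Agent.Nodes.BNOf Cfsg.Agent.Nodes.Coroot Cfsg.Agent.KFacts.SLRow
  Cfsg.Agent.OddHalf.D7.Cases Cfsg.Agent.OddHalf.D7Out Cfsg.Agent.OddHalf.D7Ex Cfsg.Agent.OddHalf.SL.Index

universe u

/-- `ExTwo` from the Dynkin facts. -/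
theorem exTwo_of {l k : ℕ} {M : CoxeterMatrix (Fin l)} (f : Fin k ↪ Fin l) (j o : Fin l) (κ : Fin k)
    (hN : ∀ [Finite M.Group] {A : Fin l → Fin l → ℤ} (h : IsCartan M A) {r : Fin l → ℤ},
      IsRoot M.toCoxeterSystem h r → (∀ i, 0 ≤ cpr M.toCoxeterSystem h (sr i) r) →
      NdI.NdI M.toCoxeterSystem h f j κ r o)
    (hnb : ∀ {A : Fin l → Fin l → ℤ} (_ : IsCartan M A), ∀ i, ∃ i', Bf A (sr (f i)) (sr (f i')) = -1)
    (haut : ∀ σ τ : Equiv.Perm (Fin k), (∀ i k, M (f (σ i)) (f (σ k)) = M (f i) (f k)) → σ κ = κ →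
      (∀ i k, M (f (τ i)) (f (τ k)) = M (f i) (f k)) → τ κ = κ → σ ≠ 1 → τ ≠ 1 → σ = τ) : RowSL.ExTwo.{u} M := by
  intro G _ hfin K A h T n X F _ _ _ e hW _ hM D Sy t v ρ T' g m z O C
  have := hfin
  have := hW
  have N := hN h O.root O.dom
  have D' := OutBase.dm D
  have N' : KRD.Nodes M.toCoxeterSystem h f j κ ρ o := ⟨N.toNd, N.oj, N.of, N.full, N.jo⟩
  have HK := KRD.krD D' N' (SylOf.fl_of C) (SylOf.hs_of C) (hnb h)
  obtain ⟨V, B⟩ := DBaseOf.exists_baseG D' (SylOf.fl_of C) N HK haut O.zX O.z1 (SylOf.syl_of D O)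
  obtain ⟨s, g', H⟩ := NdI.isoRt D.h4 D.h6 N (hnb h)
  exact ⟨V, DLastOf.base0 D C B H⟩

end Cfsg.Agent.OddHalf.D7.RowD

end
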