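import Cfsg.Agent.OddHalf.D7Out.MainSL
import Cfsg.Agent.OddHalf.D7An.LocOf
import Cfsg.Agent.OddHalf.D7.RowSL

-- merged: Cfsg.Agent.OddHalf.D7Out.ExA2
section

/-!
# `L_{n+1}(2)`, `n ≥ 4`: existence of the doubled root group (helper875; `LocOf` of helper991, `KTwo` of helper57)

`hasEx` : `HasEx D e t v` for every datum of `K ≅ PSL_{n+1}(F)`, `|F| = 2`, with the standard root groups.
-/

set_option autoImplicit false
set_option linter.unusedSectionVars false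

namespace Cfsg.Agent.OddHalf.D7Out.ExA2

open Matrix CoxeterSystem Cfsg.Agent.ChevalleyStructure.CoxeterGeom Cfsg.Agent.Tits.Roots Cfsg.Agent.Tits.Core
  Cfsg.Agent.Tits.RootComb Cfsg.Agent.Nodes.Reps Cfsg.Agent.Nodes.BNOf Cfsg.Agent.Nodes.Coroot
  Cfsg.Agent.Nodes.RootsA Cfsg.Agent.Nodes.RGDTypeA
  Cfsg.Agent.OddHalf.SL.Index Cfsg.Agent.OddHalf.SL.OfRGD Cfsg.Agent.KFacts.SLRow.Def
  Cfsg.Agent.OddHalf.D7Ex Cfsg.Agent.OddHalf.SL.PreOf Cfsg.Agent.OddHalf.SL Cfsg.Agent.OddHalf.D7Out.MainSL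
  Cfsg.Agent.OddHalf.D7An.LocOf
open Cfsg.Agent.LieRecognition.BNCox (cA)

variable {n : ℕ} {F : Type*} [Field F] {W : Type*} [Group W] {cs : CoxeterSystem (cA n) W}
  {A : Fin n → Fin n → ℤ} {h : IsCartan (cA n) A} {G : Type*} [Group G] {K : Subgroup G} {t : G}

/-- every root orthogonal to `r` has a neighbour orthogonal to `r` -/
theorem hirr [Finite W] (cs : CoxeterSystem (cA n) W) (h : IsCartan (cA n) A) (hn : 4 ≤ n) (r : Fin n → ℤ) (hr : IsRoot cs h r) (b : Fin n → ℤ) (hb : IsRoot cs h b) (h0 : Bf A b r = 0) :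
    ∃ d, IsRoot cs h d ∧ Bf A d r = 0 ∧ Bf A b d = 1 := by
  obtain ⟨x, y, hxy, rfl⟩ := exists_of_isRoot cs h hr
  obtain ⟨i, j, hij, rfl⟩ := exists_of_isRoot cs h hb
  obtain ⟨k, hk1, hk2, hk3, hk4⟩ := exists_avoid hn x y i j
  rw [bf_rtA cs h i j hxy] at h0
  have hd : i ≠ x ∧ i ≠ y ∧ j ≠ x ∧ j ≠ y := by
    simp only [Fin.ext_iff, ne_eq] at *
    split_ifs at h0 <;> omega
  refine ⟨rtA i k, isRoot_rtA cs h hk3.symm, ?_, ?_⟩
  · rw [bf_rtA cs h i k hxy, if_neg hd.1, if_neg hd.2.1, if_neg hk1, if_neg hk2]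
    norm_num
  · rw [bf_rtA cs h i j hk3.symm, if_pos rfl, if_neg hk3.symm, if_neg hij.symm, if_neg hk4.symm]
    norm_num

theorem aux [Finite W] [Finite G] (hF : ∀ x : F, x = 0 ∨ x = 1) (hn : 4 ≤ n)
    {e : ProjectiveSpecialLinearGroup (Fin (n + 1)) F →* G} (he : Function.Injective e) (heK : ∀ g, e g ∈ K)
    {T : Subgroup G} {n' : Fin n → G} {X : (Fin n → ℤ) → Subgroup G} (hX : X = XG e)
    (D : Datum K 2 cs h T n' X) (C : KFull.CT t K) {ρ : Fin n → ℤ} (hρ : IsRoot cs h ρ) {m z : G}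
    (hz : z ∈ X ρ) (hz1 : z ≠ 1) (mt : m * t * m⁻¹ = t * z) (mz : m⁻¹ * z * m ∈ X ρ) :
    ∃ V, Base0.Base0 D.rgd t ρ V := by
  subst hX
  obtain ⟨a, b, hab, rfl⟩ := exists_of_isRoot cs h hρ
  have Fl : KTwo.Fl t K := ⟨C.tt, C.tK, C.Kt, C.nrm, C.cK⟩
  have KR := KTwo.krTwo D Fl (fun P h1 h2 => C.perf P (fun x hx =>
    Subgroup.mem_centralizer_singleton_iff.2 (h1 x hx)) h2) hρ fun b hb h0 => hirr cs h hn _ hρ b hb h0
  have hmz : m⁻¹ * z * m = z := by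
    refine KTwo.eq_of_ne D hρ mz hz (fun h1 => hz1 ?_) hz1
    calc z = m * (m⁻¹ * z * m) * m⁻¹ := by group
      _ = 1 := by rw [h1]; group
  have hX : ∀ x ∈ XG e (rtA a b), m * x * m⁻¹ ∈ XG e (rtA a b) := by
    intro x hx
    by_cases hx1 : x = 1
    · rw [hx1, mul_one, mul_inv_cancel]; exact one_mem _
    · rw [KTwo.eq_of_ne D hρ hx hz hx1 hz1]
      have h1 : m * z * m⁻¹ = z := by
        calc m * z * m⁻¹ = m * (m⁻¹ * z * m) * m⁻¹ := by rw [hmz]
          _ = z := by group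
      rw [h1]; exact hz
  obtain ⟨V, O, -, -⟩ := exists_two cs h hF hn he (t := t) (fun g => (C.Kt _ (heK g)).symm) hab KR hX
    (by rw [mt, ← mul_assoc, C.tt, one_mul]; exact hz) (by rw [mt]; exact fun h => hz1 (mul_eq_left.1 h))
  exact ⟨V, OutBase.base0 D C hρ O⟩

/-- **Existence for `L_{n+1}(2)`, `n ≥ 4`.** -/
theorem hasEx [Finite W] [Finite G] (hF : ∀ x : F, x = 0 ∨ x = 1) (hn : 4 ≤ n)
    (f : ProjectiveSpecialLinearGroup (Fin (n + 1)) F →* ↥K) (hf : Function.Injective f)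
    {T₀ : Subgroup ↥K} {n₀ : Fin n → ↥K}
    (D : Datum (⊤ : Subgroup ↥K) 2 cs h T₀ n₀ (fun x => ((X F x).map (pr n F)).map f))
    {F' : Type*} [Field F'] {e : (Fin n → ℤ) → F' → ↥K} {v : G} : HasEx D e t v := by
  intro ρ T g m z O C
  refine aux (e := K.subtype.comp f) hF hn (K.subtype_injective.comp hf) (fun g => (f g).2) ?_ (OutBase.dm D) C
    O.root O.zX O.z1 O.mt (OfFront.conj_z O.fr.toFr O.mT O.zX O.zT O.mt)
  funext x
  exact Subgroup.map_map _ _ _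

end Cfsg.Agent.OddHalf.D7Out.ExA2

end

-- merged: Cfsg.Agent.OddHalf.D7Out.RowA2
section

/-!
# Node D7 for `K = L_{n+1}(2)`, `n ≥ 4` (helper875)
-/

set_option autoImplicit false
set_option linter.unusedSectionVars false

namespace Cfsg.Agent.OddHalf.D7Out.RowA2

open Cfsg
open Matrix CoxeterSystem Cfsg.Agent.ChevalleyStructure.CoxeterGeom Cfsg.Agent.Tits.Roots Cfsg.Agent.Tits.Core
  Cfsg.Agent.Tits.RootComb Cfsg.Agent.Nodes.Reps Cfsg.Agent.Nodes.BNOf Cfsg.Agent.Nodes.Coroot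
  Cfsg.Agent.Nodes.RootsA Cfsg.Agent.Nodes.RGDTypeA Cfsg.Agent.KFacts Cfsg.Agent.KFacts.SLRow.Def
  Cfsg.Agent.KFacts.SLRow Cfsg.Agent.KFacts.ChevTwo Cfsg.Agent.KFacts.SLRow.Diag Cfsg.Agent.KFacts.SLRow.Row
  Cfsg.Agent.OddHalf.Iface Cfsg.Agent.OddHalf.D7.Cases Cfsg.Agent.OddHalf.Front.FE Cfsg.Agent.Schreier.Basic
open Cfsg.Agent.LieRecognition.BNCox (cA)

universe u

/-- a field with two elements -/
theorem zero_or_one {F : Type*} [Field F] [Finite F] (hF : Nat.card F = 2) (x : F) : x = 0 ∨ x = 1 := by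
  rw [Nat.card_eq_two_iff' (0 : F)] at hF
  obtain ⟨y, -, hy⟩ := hF
  by_cases h0 : x = 0
  · exact Or.inl h0
  · right
    rw [hy x h0, hy 1 one_ne_zero]

/-- **`L_{n+1}(2)`, `n ≥ 4`.** -/
theorem false_of {G : Type u} [Group G] (C : Ctx G) {K : Subgroup G} (S : Std G K) (hcyc : Cyc K) {n : ℕ}
    (hn : 4 ≤ n) (F : Type) [Field F] [Finite F] [CharP F 2] (hF : Nat.card F = 2)
    (f : ProjectiveSpecialLinearGroup (Fin (n + 1)) F ≃* ↥K) (hs : Sch ↥K) : False := by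
  have hfin := C.fin
  have : Fact (Nat.Prime 2) := ⟨Nat.prime_two⟩
  have h2 : ∀ t : F, t + t = 0 := CharTwo.add_self_eq_zero
  have hW : Finite (cA n).Group := finite_W (cA n).toCoxeterSystem (isCartan n)
  have D₀ : Datum (⊤ : Subgroup (ProjectiveSpecialLinearGroup (Fin (n + 1)) F)) 2 (cA n).toCoxeterSystem
      (isCartan n) _ _ _ :=
    ⟨rgd_psl (F := F) (cA n).toCoxeterSystem (isCartan n), le_top, G1_psl_eq_top _ _, Psl.noCent h2 _ _,
      Psl.conn_cA, by simpa using (show 3 ≤ n by omega), fun i j => (Psl.cA_ne i j).1,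
      fun i j => (Psl.cA_ne i j).2, fun x hx => by rw [Psl.card_X h2 _ _ hx, hF]⟩
  have Sy₀ : Sys D₀.rgd _ := SysA.sys_PSL (cA n).toCoxeterSystem (isCartan n)
  have D := D₀.map f.toMonoidHom f.injective
  have h1 : (⊤ : Subgroup (ProjectiveSpecialLinearGroup (Fin (n + 1)) F)).map f.toMonoidHom = ⊤ :=
    Subgroup.map_top_of_surjective _ f.surjective
  rw [h1] at D
  have Sy := sys_map Sy₀ f.toMonoidHom f.injective D.rgd
  obtain ⟨t, v, hst⟩ := exists_start C S hcyc (D7.StartSL.center_eq_bot D Sy)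
  exact GrSL.false_of_two (commutator_eq_top C) hst hs D Sy (dTwo_A n) (HasPTwo.hasP_path4 D (HasPTwo.path4_A hn))
    (ExA2.hasEx (zero_or_one hF) hn f.toMonoidHom f.injective D)

end Cfsg.Agent.OddHalf.D7Out.RowA2

end

-- merged: Cfsg.Agent.OddHalf.D7.RowL
section

/-!
# Node D7, the family `L_n(q)` (helper158; `q = 2`: `RowA2` of helper875)

`node_L` : `Node @FamL`.
-/

set_option autoImplicit false
set_option linter.unusedSectionVars false

namespace Cfsg.Agent.OddHalf.D7.RowL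

open Cfsg
open Cfsg.Agent.KFacts.SLRow.Row Cfsg.Agent.OddHalf.D7.Cases Cfsg.Agent.OddHalf.D7.StartSL

universe u

/-- **Node D7 for the family `L_n(q)`.** -/
theorem node_L : Node.{u} @FamL.{u} := by
  intro G _ C K S hcyc hK
  have hs := sch_L hK
  obtain ⟨F, i1, i2, a, m, ha, hF, hm, h4, ⟨e⟩⟩ := hK
  have := charTwo_of_card hF
  obtain ⟨n, rfl⟩ : ∃ n, m = n + 1 := ⟨m - 1, by omega⟩
  have hc : Nat.card F = 2 ^ a := by rw [Nat.card_eq_fintype_card, hF]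
  rcases Nat.lt_or_ge 1 a with h1 | h1
  · exact false_of C S hcyc ((isSLC_PSL (by omega) F).of_equiv e.symm) hs
      (RowSL.impossible_big (by rw [hc]; exact RowSL.two_lt_pow h1))
  · obtain rfl : a = 1 := le_antisymm h1 ha
    have hn : 4 ≤ n := by
      rcases Nat.lt_or_ge n 4 with h5 | h5
      · have := h4 (by omega)
        omega
      · exact h5
    exact Cfsg.Agent.OddHalf.D7Out.RowA2.false_of C S hcyc hn F (by rw [hc, pow_one]) e.symm hs

end Cfsg.Agent.OddHalf.D7.RowL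

end
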